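import Mathlib.GroupTheory.Perm.Fin
import Mathlib.GroupTheory.Perm.Support
import Mathlib.GroupTheory.SpecificGroups.Alternating

/-!
# Involutions of alternating groups of degree at least 6 as products of centralised squares
-/

set_option autoImplicit false

namespace CfsgLib.CentTwoAlt

open Equiv Equiv.Perm

variable {α : Type*} [Fintype α] [DecidableEq α]

/-- The squares of the even permutations commuting with `s`. -/
def evenSquares (s : Perm α) : Set (Perm α) :=
  {w | ∃ y : Perm α, sign y = 1 ∧ Commute y s ∧ w = y * y}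

theorem double_swap_mem {s : Perm α} (hs : s * s = 1) (h6 : 6 ≤ Fintype.card α) {a b c d : α}
    (hab : s a = b) (hcd : s c = d) (ha : b ≠ a) (hc : d ≠ c) (hca : c ≠ a) (hcb : c ≠ b) :
    swap a b * swap c d ∈ evenSquares s := by
  have hss : ∀ x, s (s x) = x := fun x => by
    simpa using Equiv.congr_fun hs x
  have hba : s b = a := hab ▸ hss a
  have hdc : s d = c := hcd ▸ hss c
  have hdb : d ≠ b := fun h => hca (by rw [← hdc, h, hba])
  have hda : d ≠ a := fun h => hcb (by rw [← hdc, h, hab])
  let Q : Finset α := {a, b, c, d}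
  have hQ : Q.card ≤ 4 := Finset.card_le_four
  have hmem : ∀ x, x ∈ Q ↔ x = a ∨ x = b ∨ x = c ∨ x = d := fun x => by simp [Q]
  obtain ⟨e, f, hef, he, hf, hcomm⟩ : ∃ e f, e ≠ f ∧ e ∉ Q ∧ f ∉ Q ∧ Commute (swap e f) s := by
    have key : ∀ e f, swap (s e) (s f) = swap e f → Commute (swap e f) s := by
      intro e f h
      have h' := Equiv.mul_swap_eq_swap_mul s e f
      rw [h] at h'
      exact h'.symm
    by_cases hmv : ∃ e ∉ Q, s e ≠ e
    · obtain ⟨e, he, hne⟩ := hmv
      refine ⟨e, s e, hne.symm, he, fun h => he ?_, key e (s e) (by rw [hss, swap_comm])⟩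
      rcases (hmem _).1 h with h | h | h | h <;> apply_fun s at h <;> rw [hss] at h <;> simp [hmem, h, hab, hba, hcd, hdc]
    · push Not at hmv
      have h2 : 1 < (Finset.univ \ Q).card := by
        rw [Finset.card_sdiff_of_subset (Finset.subset_univ _), Finset.card_univ]
        omega
      obtain ⟨e, he, f, hf, hef⟩ := Finset.one_lt_card.1 h2
      simp only [Finset.mem_sdiff, Finset.mem_univ, true_and] at he hf
      exact ⟨e, f, hef, he, hf, key e f (by rw [hmv e he, hmv f hf])⟩
  simp only [hmem, not_or] at he hf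
  obtain ⟨hea, heb, hec, hed⟩ := he
  obtain ⟨hfa, hfb, hfc, hfd⟩ := hf
  set q : Perm α := swap a c * swap c b * swap b d with hq
  have hqa : q a = c := by simp [hq, swap_apply_of_ne_of_ne, ha.symm, hda.symm, hca.symm]
  have hqc : q c = b := by
    simp [hq, swap_apply_of_ne_of_ne, hcb, hc.symm, ha, hcb.symm]
  have hqb : q b = d := by simp [hq, swap_apply_of_ne_of_ne, hdb, hc, hda]
  have hqd : q d = a := by simp [hq]
  have hqo : ∀ x, x ≠ a → x ≠ b → x ≠ c → x ≠ d → q x = x := fun x h1 h2 h3 h4 => by
    simp [hq, swap_apply_of_ne_of_ne, h1, h2, h3, h4]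
  have hqs : Commute q s := by
    refine Equiv.ext fun x => ?_
    simp only [mul_apply]
    by_cases h1 : x = a
    · subst h1; rw [hqa, hab, hqb, hcd]
    by_cases h2 : x = b
    · subst h2; rw [hqb, hba, hqa, hdc]
    by_cases h3 : x = c
    · subst h3; rw [hqc, hcd, hqd, hba]
    by_cases h4 : x = d
    · subst h4; rw [hqd, hdc, hqc, hab]
    rw [hqo x h1 h2 h3 h4, hqo (s x)]
    · exact fun h => h2 (by rw [← hss x, h, hab])
    · exact fun h => h1 (by rw [← hss x, h, hba])
    · exact fun h => h4 (by rw [← hss x, h, hcd])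
    · exact fun h => h3 (by rw [← hss x, h, hdc])
  have hqef : Commute q (swap e f) := by
    have h := Equiv.mul_swap_eq_swap_mul q e f
    rwa [hqo e hea heb hec hed, hqo f hfa hfb hfc hfd] at h
  refine ⟨q * swap e f, ?_, hqs.mul_left hcomm, ?_⟩
  · simp [hq, map_mul, sign_swap', hca.symm, hcb, hdb.symm, hef]
  · rw [hqef.symm.mul_mul_mul_comm, swap_mul_self, mul_one]
    refine Equiv.ext fun x => ?_
    simp only [mul_apply]
    by_cases h1 : x = a
    · subst h1; rw [hqa, hqc, swap_apply_of_ne_of_ne hca.symm hda.symm, swap_apply_left]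
    by_cases h2 : x = b
    · subst h2; rw [hqb, hqd, swap_apply_of_ne_of_ne hcb.symm hdb.symm, swap_apply_right]
    by_cases h3 : x = c
    · subst h3; rw [hqc, hqb, swap_apply_left, swap_apply_of_ne_of_ne hda hdb]
    by_cases h4 : x = d
    · subst h4; rw [hqd, hqa, swap_apply_right, swap_apply_of_ne_of_ne hca hcb]
    rw [hqo x h1 h2 h3 h4, hqo x h1 h2 h3 h4, swap_apply_of_ne_of_ne h3 h4,
      swap_apply_of_ne_of_ne h1 h2]

/-- An even involution in degree at least 6 is a product of squares of even permutations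
commuting with it. -/
theorem mem_closure_evenSquares {s : Perm α} (hs : s * s = 1) (hev : sign s = 1)
    (h6 : 6 ≤ Fintype.card α) : s ∈ Subgroup.closure (evenSquares s) := by
  suffices h : ∀ (n : ℕ) (σ : Perm α), σ.support.card ≤ n →
      (∀ x, σ x = s x ∨ σ x = x) → σ * σ = 1 → sign σ = 1 →
        σ ∈ Subgroup.closure (evenSquares s) from
    h _ s le_rfl (fun x => Or.inl rfl) hs hev
  intro n
  induction n with
  | zero =>
    intro σ hn _ _ _
    rw [Perm.support_eq_empty_iff.1 (Finset.card_eq_zero.1 (Nat.le_zero.1 hn))]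
    exact one_mem _
  | succ n ih =>
    intro σ hn hsub hσ hsgn
    by_cases h1 : σ = 1
    · rw [h1]; exact one_mem _
    obtain ⟨a, ha⟩ : ∃ a, σ a ≠ a := by
      by_contra hc
      push Not at hc
      exact h1 (Equiv.ext hc)
    have hss : ∀ x, σ (σ x) = x := fun x => by simpa using Equiv.congr_fun hσ x
    obtain ⟨c, hc, hca, hcb⟩ : ∃ c, σ c ≠ c ∧ c ≠ a ∧ c ≠ σ a := by
      by_contra hc
      push Not at hc
      have : σ = swap a (σ a) := Equiv.ext fun x => by
        by_cases hxa : x = a
        · subst hxa; rw [swap_apply_left]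
        by_cases hxb : x = σ a
        · subst hxb; rw [swap_apply_right, hss]
        rw [swap_apply_of_ne_of_ne hxa hxb]
        by_contra hx
        exact hxb (hc x hx hxa)
      rw [this, sign_swap ha.symm] at hsgn
      exact absurd hsgn (by decide)
    have hsa : s a = σ a := ((hsub a).resolve_right ha).symm
    have hsc : s c = σ c := ((hsub c).resolve_right hc).symm
    have hd1 : σ c ≠ σ a := fun h => hca (σ.injective h)
    have hd2 : σ c ≠ a := fun h => hcb (by rw [← h, hss])
    set w := swap a (σ a) * swap c (σ c) with hw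
    have hwmem : w ∈ Subgroup.closure (evenSquares s) :=
      Subgroup.subset_closure (double_swap_mem hs h6 hsa hsc ha hc hca hcb)
    have hww : ∀ x, w (w x) = x := by
      intro x
      have hcm : Commute (swap a (σ a)) (swap c (σ c)) := by
        have h := Equiv.mul_swap_eq_swap_mul (swap a (σ a)) c (σ c)
        rwa [swap_apply_of_ne_of_ne hca hcb, swap_apply_of_ne_of_ne hd2 hd1] at h
      have : w * w = 1 := by
        rw [hw, hcm.symm.mul_mul_mul_comm, swap_mul_self, swap_mul_self, one_mul]
      simpa using Equiv.congr_fun this x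
    have hwσ : ∀ x, (x = a ∨ x = σ a ∨ x = c ∨ x = σ c) → w x = σ x := by
      rintro x (rfl | rfl | rfl | rfl)
      · simp [hw, swap_apply_of_ne_of_ne hca.symm hd2.symm]
      · simp [hw, swap_apply_of_ne_of_ne hcb.symm hd1.symm, hss]
      · simp [hw, swap_apply_of_ne_of_ne hd2 hd1]
      · simp [hw, swap_apply_of_ne_of_ne hca hcb, hss]
    have hwo : ∀ x, ¬ (x = a ∨ x = σ a ∨ x = c ∨ x = σ c) → w x = x := by
      intro x hx
      simp only [not_or] at hx
      simp [hw, swap_apply_of_ne_of_ne hx.2.2.1 hx.2.2.2, swap_apply_of_ne_of_ne hx.1 hx.2.1]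
    have hin : ∀ x, (x = a ∨ x = σ a ∨ x = c ∨ x = σ c) →
        (σ x = a ∨ σ x = σ a ∨ σ x = c ∨ σ x = σ c) := by
      rintro x (rfl | rfl | rfl | rfl)
      · exact Or.inr (Or.inl rfl)
      · exact Or.inl (hss _)
      · exact Or.inr (Or.inr (Or.inr rfl))
      · exact Or.inr (Or.inr (Or.inl (hss _)))
    have hval : ∀ x, ((x = a ∨ x = σ a ∨ x = c ∨ x = σ c) → (w * σ) x = x) ∧
        (¬ (x = a ∨ x = σ a ∨ x = c ∨ x = σ c) → (w * σ) x = σ x) := fun x =>
      ⟨fun hx => by rw [mul_apply, hwσ _ (hin x hx), hss], fun hx => by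
        rw [mul_apply]
        exact hwo _ fun h => hx (hss x ▸ hin _ h)⟩
    have hlt : (w * σ).support.card < σ.support.card := by
      refine Finset.card_lt_card ((Finset.ssubset_iff_of_subset fun x hx => ?_).2
        ⟨a, mem_support.2 ha, fun h => mem_support.1 h ((hval a).1 (Or.inl rfl))⟩)
      rw [mem_support] at hx ⊢
      by_cases hx' : x = a ∨ x = σ a ∨ x = c ∨ x = σ c
      · exact absurd ((hval x).1 hx') hx
      · rwa [(hval x).2 hx'] at hx
    have hrest : w * σ ∈ Subgroup.closure (evenSquares s) := by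
      refine ih _ (by omega) (fun x => ?_) (Equiv.ext fun x => ?_) ?_
      · by_cases hx : x = a ∨ x = σ a ∨ x = c ∨ x = σ c
        · exact Or.inr ((hval x).1 hx)
        · rw [(hval x).2 hx]; exact hsub x
      · rw [mul_apply, one_apply]
        by_cases hx : x = a ∨ x = σ a ∨ x = c ∨ x = σ c
        · rw [(hval x).1 hx, (hval x).1 hx]
        · rw [(hval x).2 hx, (hval _).2 (fun h => hx (hss x ▸ hin _ h)), hss]
      · rw [map_mul, hsgn, hw, map_mul, sign_swap ha.symm, sign_swap hc.symm]
        rfl
    have : σ = w * (w * σ) := by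
      refine Equiv.ext fun x => ?_
      show σ x = w (w (σ x))
      rw [hww]
    rw [this]
    exact mul_mem hwmem hrest

end CfsgLib.CentTwoAlt
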