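import Mathlib.GroupTheory.Sylow
import Mathlib.GroupTheory.Transfer
import Mathlib.GroupTheory.FixedPointFree
import Cfsg.Agent.Small.ThompsonTransfer

/-!
# Transfer for abelian Sylow 2-subgroups of order eight; four-groups acting without fixed points
-/

set_option autoImplicit false
set_option linter.style.haveILetI false

namespace CfsgLib.CentTwoAlt

variable {G : Type*} [Group G] [Finite G]

/-- Without a subgroup of index two, no non-trivial element of an abelian Sylow 2-subgroup is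
fixed by the normaliser. -/
theorem eq_one_of_normalizer_fixed (h2 : ∀ H : Subgroup G, H.index ≠ 2) (P : Sylow 2 G)
    (hab : ∀ a ∈ (P : Subgroup G), ∀ b ∈ (P : Subgroup G), a * b = b * a) {z : G}
    (hz : z ∈ (P : Subgroup G))
    (hfix : ∀ n ∈ Subgroup.normalizer ((P : Subgroup G) : Set G), n * z * n⁻¹ = z) : z = 1 := by
  classical
  haveI : Fact (Nat.Prime 2) := ⟨Nat.prime_two⟩
  haveI : IsMulCommutative (P : Subgroup G) := ⟨⟨fun a b => Subtype.ext (hab a a.2 b b.2)⟩⟩
  letI : CommGroup (P : Subgroup G) := { (P : Subgroup G).toGroup with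
    mul_comm := fun a b => Subtype.ext (hab a a.2 b b.2) }
  have key : ∀ (k : ℕ) (g₀ : G), g₀⁻¹ * z ^ k * g₀ ∈ (P : Subgroup G) →
      g₀⁻¹ * z ^ k * g₀ = z ^ k := by
    intro k g₀ h
    obtain ⟨n, hn, e⟩ := P.conj_eq_normalizer_conj_of_mem (z ^ k) g₀ (pow_mem hz k) h
    have hc : Commute n⁻¹ z := mul_inv_eq_iff_eq_mul.1 (hfix n⁻¹ (inv_mem hn))
    rw [e, (hc.pow_right k).eq, inv_mul_cancel_right]
  have h := MonoidHom.transfer_eq_pow (MonoidHom.id (P : Subgroup G)) z key
  set τ := MonoidHom.transfer (MonoidHom.id (P : Subgroup G))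
  by_contra hz1
  have hτ : τ.range ≠ ⊥ := by
    intro hb
    have h1 : τ z = 1 := Subgroup.mem_bot.1 (hb ▸ ⟨z, rfl⟩)
    rw [h1] at h
    have hidx : z ^ (P : Subgroup G).index = 1 := congrArg Subtype.val h.symm
    obtain ⟨k, hk⟩ := P.2 ⟨z, hz⟩
    have hk' : z ^ 2 ^ k = 1 := congrArg Subtype.val hk
    have := Nat.dvd_gcd (orderOf_dvd_of_pow_eq_one hk') (orderOf_dvd_of_pow_eq_one hidx)
    rw [((Nat.prime_two.coprime_iff_not_dvd.2 P.not_dvd_index).pow_left k :
      Nat.Coprime (2 ^ k) (P : Subgroup G).index), Nat.dvd_one, orderOf_eq_one_iff] at this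
    exact hz1 this
  obtain ⟨n, hn⟩ := (P.isPGroup'.to_subgroup τ.range).exists_card_eq
  have hn0 : n ≠ 0 := fun h0 => hτ (Subgroup.card_eq_one.1 (by rw [hn, h0, pow_zero]))
  obtain ⟨K, hK⟩ := Sylow.exists_subgroup_card_pow_prime (G := τ.range) 2 (n := n - 1)
    (hn ▸ pow_dvd_pow 2 (by omega))
  refine h2 (K.comap τ.rangeRestrict) ?_
  rw [Subgroup.index_comap_of_surjective _ τ.rangeRestrict_surjective]
  have h' := K.card_mul_index
  rw [hK, hn] at h'
  exact Nat.eq_of_mul_eq_mul_left (show 0 < 2 ^ (n - 1) by positivity)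
    (h'.trans (by rw [← pow_succ]; congr 1; omega))

/-- With Sylow 2-subgroups of order eight and exponent two and no subgroup of index two, a
normal subgroup containing one involution contains all of them. -/
theorem involution_mem_of_normal (h2 : ∀ H : Subgroup G, H.index ≠ 2)
    (h8 : ∀ Q : Sylow 2 G, Nat.card (Q : Subgroup G) = 8)
    (hexp : ∀ Q : Sylow 2 G, ∀ x ∈ (Q : Subgroup G), x * x = 1)
    (K : Subgroup G) [K.Normal] {u : G} (hu : u * u = 1) (hu1 : u ≠ 1) (huK : u ∈ K)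
    {v : G} (hv : v * v = 1) : v ∈ K := by
  classical
  haveI : Fact (Nat.Prime 2) := ⟨Nat.prime_two⟩
  have hpg : ∀ {x : G}, x * x = 1 → IsPGroup 2 (Subgroup.zpowers x) := by
    intro x hx
    obtain ⟨i, -, hi⟩ := (Nat.dvd_prime_pow Nat.prime_two).1
      (show orderOf x ∣ 2 ^ 1 by
        rw [pow_one]; exact orderOf_dvd_of_pow_eq_one ((pow_two x).trans hx))
    exact IsPGroup.of_card (n := i) (by rw [Nat.card_zpowers, hi])
  obtain ⟨P, hP⟩ := (hpg hu).exists_le_sylow
  have hdvd : 8 ∣ Nat.card G := h8 P ▸ Subgroup.card_subgroup_dvd_card _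
  have hndvd : ¬ 16 ∣ Nat.card G := by
    intro h
    obtain ⟨Q, hQ⟩ := Sylow.exists_subgroup_card_pow_prime (G := G) 2 (n := 4) h
    obtain ⟨Q', hQ'⟩ := (IsPGroup.of_card hQ).exists_le_sylow
    have := Subgroup.card_dvd_of_le hQ'
    rw [hQ, h8 Q'] at this
    norm_num at this
  have hkK : 2 ∣ Nat.card K := by
    have h1 : orderOf u = 2 := orderOf_eq_prime ((pow_two u).trans hu) hu1
    rw [← h1]
    exact Subgroup.orderOf_dvd_natCard _ huK
  have hmul := K.card_mul_index
  set W := (P : Subgroup G) ⊓ K with hW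
  have hWdvd : Nat.card W ∣ Nat.card K := Subgroup.card_dvd_of_le inf_le_right
  have hW8 : Nat.card W ∣ 8 := h8 P ▸ Subgroup.card_dvd_of_le inf_le_left
  by_cases hk4 : 4 ∣ Nat.card K
  · by_cases hk8 : 8 ∣ Nat.card K
    · -- odd index
      have hodd : ¬ 2 ∣ K.index := fun h => hndvd
        (hmul ▸ show 16 ∣ Nat.card K * K.index from (mul_dvd_mul hk8 h : 8 * 2 ∣ _))
      have hd1 : orderOf (v : G ⧸ K) ∣ 2 := orderOf_dvd_of_pow_eq_one (by
        rw [← QuotientGroup.mk_pow, pow_two, hv, QuotientGroup.mk_one])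
      have hd2 : orderOf (v : G ⧸ K) ∣ K.index := by
        rw [Subgroup.index_eq_card]; exact orderOf_dvd_natCard _
      rcases (Nat.dvd_prime Nat.prime_two).1 hd1 with h | h
      · exact (QuotientGroup.eq_one_iff v).1 (orderOf_eq_one_iff.1 h)
      · exact absurd (h ▸ hd2) hodd
    · -- index twice odd
      exfalso
      obtain ⟨w, hwP, hwK⟩ : ∃ w ∈ (P : Subgroup G), w ∉ K := by
        by_contra hc
        push Not at hc
        exact hk8 (h8 P ▸ Subgroup.card_dvd_of_le hc)
      have hidx : K.index % 4 = 2 := by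
        obtain ⟨j, hj⟩ := hk4
        rw [hj] at hk8 hmul
        have hjodd : ¬ 2 ∣ j := fun h => hk8 ((mul_dvd_mul_left 4 h : 4 * 2 ∣ _))
        have he : 2 ∣ K.index := by
          have h24 : 2 * 4 ∣ 4 * (j * K.index) := by rw [← mul_assoc, hmul]; exact hdvd
          rw [mul_comm 2 4] at h24
          exact ((Nat.prime_two.coprime_iff_not_dvd.2 hjodd).dvd_of_dvd_mul_left
            (Nat.dvd_of_mul_dvd_mul_left (by norm_num) h24))
        have hne : ¬ 4 ∣ K.index := fun h => hndvd (hmul ▸ by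
          rw [mul_assoc]; exact (mul_dvd_mul_left 4 (dvd_mul_of_dvd_right h j) : 4 * 4 ∣ _))
        omega
      have hwo : orderOf w = 2 := orderOf_eq_prime ((pow_two w).trans (hexp P w hwP))
        fun h => hwK (h ▸ one_mem K)
      obtain ⟨g, hg⟩ := Small.thompson_transfer h2 K hwo hidx
      refine hwK ?_
      have h' := ‹K.Normal›.conj_mem _ hg g
      rwa [show g * (g⁻¹ * w * g) * g⁻¹ = w by group] at h'
  · exfalso
    have hW2 : Nat.card W ≤ 2 := by
      have h4 : ¬ 4 ∣ Nat.card W := fun h => hk4 (h.trans hWdvd)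
      have := Nat.le_of_dvd (by norm_num) hW8
      interval_cases hc : Nat.card W <;> omega
    have huW : u ∈ W := ⟨hP (Subgroup.mem_zpowers u), huK⟩
    refine hu1 (eq_one_of_normalizer_fixed h2 P (fun a ha b hb => ?_) huW.1 fun n hn => ?_)
    · have := hexp P _ (mul_mem ha hb)
      rw [mul_eq_one_iff_eq_inv, mul_inv_rev, inv_eq_of_mul_eq_one_right (hexp P a ha),
        inv_eq_of_mul_eq_one_right (hexp P b hb)] at this
      exact this
    · have hnW : n * u * n⁻¹ ∈ W :=
        ⟨(Subgroup.mem_normalizer_iff.1 hn u).1 huW.1, ‹K.Normal›.conj_mem u huK n⟩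
      by_contra hne
      haveI := Fintype.ofFinite W
      have h3 : ({1, ⟨u, huW⟩, ⟨_, hnW⟩} : Finset W).card ≤ 2 :=
        (Finset.card_le_univ _).trans (Nat.card_eq_fintype_card (α := W) ▸ hW2)
      have e1 : (1 : W) ≠ ⟨u, huW⟩ := fun h => hu1 (congrArg Subtype.val h).symm
      have e2 : (1 : W) ≠ ⟨_, hnW⟩ := fun h =>
        hu1 (conj_eq_one_iff.1 (congrArg Subtype.val h).symm)
      have e3 : (⟨u, huW⟩ : W) ≠ ⟨_, hnW⟩ := fun h => hne (congrArg Subtype.val h).symm
      rw [Finset.card_insert_of_notMem (by simp [e1, e2]), Finset.card_pair e3] at h3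
      omega

/-- An odd-order subgroup normalised by two involutions `u`, `v` such that `u`, `v` and `u v`
fix no non-identity element of it is trivial. -/
theorem eq_bot_of_fpf (X : Subgroup G) {u v : G} (hu : u * u = 1) (hv : v * v = 1)
    (hXu : ∀ x ∈ X, u * x * u⁻¹ ∈ X) (hXv : ∀ x ∈ X, v * x * v⁻¹ ∈ X)
    (fu : ∀ x ∈ X, u * x = x * u → x = 1) (fv : ∀ x ∈ X, v * x = x * v → x = 1)
    (fuv : ∀ x ∈ X, u * v * x = x * (u * v) → x = 1) : X = ⊥ := by
  have key : ∀ w : G, w * w = 1 → (hXw : ∀ x ∈ X, w * x * w⁻¹ ∈ X) →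
      (∀ x ∈ X, w * x = x * w → x = 1) → ∀ x ∈ X, w * x * w⁻¹ = x⁻¹ := by
    intro w hw hXw fw x hx
    let φ : X →* X := MonoidHom.mk' (fun a => ⟨_, hXw a a.2⟩) fun a b => Subtype.ext (by
      simp [mul_assoc])
    have hfpf : MonoidHom.FixedPointFree φ := fun a ha => Subtype.ext
      (fw a a.2 (mul_inv_eq_iff_eq_mul.1 (congrArg Subtype.val ha)))
    have hinv : Function.Involutive φ := fun a => Subtype.ext (by
      show w * (w * a * w⁻¹) * w⁻¹ = a
      rw [inv_eq_of_mul_eq_one_right hw, show w * (w * (a : G) * w) * w = (w * w) * a * (w * w)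
        by group, hw, one_mul, mul_one])
    exact congrArg Subtype.val (congrFun (hfpf.coe_eq_inv_of_involutive hinv) ⟨x, hx⟩)
  refine (Subgroup.eq_bot_iff_forall X).2 fun x hx => fuv x hx (mul_inv_eq_iff_eq_mul.1 ?_)
  rw [mul_inv_rev, show u * v * x * (v⁻¹ * u⁻¹) = u * (v * x * v⁻¹) * u⁻¹ by group,
    key v hv hXv fv x hx, key u hu hXu fu _ (inv_mem hx), inv_inv]

end CfsgLib.CentTwoAlt
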