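import Cfsg.Agent.CentTwoAlt.Model
import Cfsg.Agent.CentTwoAlt.Transfer

/-!
# A 2-central involution whose centraliser contains `Z/2 × A₄`, with Sylow 2-subgroups of order 8

Without a subgroup of index two all involutions are conjugate, and no non-trivial subgroup of odd
order is normalised by a Sylow 2-subgroup.
-/

set_option autoImplicit false
set_option linter.style.haveILetI false

namespace CfsgLib.CentTwoAlt

universe u

/-- An involution `t` with a copy of `Z/2 × A₄` in its centraliser, Sylow 2-subgroups of order 8,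
and centralisers of four-groups through `t` of exponent two. -/
structure Setting (G : Type u) [Group G] where
  /-- The involution. -/
  t : G
  /-- The embedding of the model. -/
  phi : Mdl →* G
  inj : Function.Injective phi
  phi_T : phi mT = t
  card_sylow : ∀ P : Sylow 2 G, Nat.card (P : Subgroup G) = 8
  cent : ∀ (k : Fin 3) (x : G), x * t = t * x → x * phi (mVs k) = phi (mVs k) * x → x * x = 1

namespace Setting

variable {G : Type u} [Group G] (S : Setting G)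

theorem t_mul_t : S.t * S.t = 1 := by rw [← S.phi_T, ← map_mul, mT_facts.2.1, map_one]

theorem t_ne_one : S.t ≠ 1 := by
  rw [← S.phi_T, Ne, map_eq_one_iff _ S.inj]
  exact mT_facts.1

theorem comm_t (m : Mdl) : S.phi m * S.t = S.t * S.phi m := by
  rw [← S.phi_T, ← map_mul, ← map_mul, mT_mul]

theorem not_comm : S.phi mR * S.phi mV ≠ S.phi mV * S.phi mR := fun h =>
  noncomm_mdl (S.inj (by rw [map_mul, map_mul]; exact h))

variable [Finite G]

/-- The distinguished Sylow 2-subgroup. -/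
noncomputable def P₀ : Sylow 2 G :=
  haveI : Fact (Nat.Prime 2) := ⟨Nat.prime_two⟩
  Sylow.ofCard (mP.map S.phi) (by
    obtain ⟨P⟩ : Nonempty (Sylow 2 G) := inferInstance
    rw [← P.card_eq_multiplicity, S.card_sylow P, Subgroup.card_map_of_injective S.inj,
      Nat.card_eq_fintype_card]
    exact card_mP)

theorem coe_P₀ : ((S.P₀ : Sylow 2 G) : Subgroup G) = mP.map S.phi := rfl

theorem mem_P₀ {m : Mdl} : S.phi m ∈ (S.P₀ : Subgroup G) ↔ m ∈ mP := by
  rw [coe_P₀]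
  exact Subgroup.mem_map_iff_mem S.inj

theorem t_mem : S.t ∈ (S.P₀ : Subgroup G) := S.phi_T ▸ S.mem_P₀.2 mT_facts.2.2.1

theorem vs_mem (k : Fin 3) : S.phi (mVs k) ∈ (S.P₀ : Subgroup G) :=
  S.mem_P₀.2 (mT_facts.2.2.2.2.2 k).1

theorem sq_P₀ {x : G} (hx : x ∈ (S.P₀ : Subgroup G)) : x * x = 1 := by
  obtain ⟨m, hm, rfl⟩ := hx
  rw [← map_mul, sq_mP m hm, map_one]

theorem comm_P₀ {x y : G} (hx : x ∈ (S.P₀ : Subgroup G)) (hy : y ∈ (S.P₀ : Subgroup G)) :
    x * y = y * x := by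
  have h := inv_eq_of_mul_eq_one_right (S.sq_P₀ (Subgroup.mul_mem _ hx hy))
  rw [← h, mul_inv_rev, inv_eq_of_mul_eq_one_right (S.sq_P₀ hx),
    inv_eq_of_mul_eq_one_right (S.sq_P₀ hy)]

include S in
theorem sq_sylow (Q : Sylow 2 G) {x : G} (hx : x ∈ (Q : Subgroup G)) : x * x = 1 := by
  haveI : Fact (Nat.Prime 2) := ⟨Nat.prime_two⟩
  obtain ⟨a, ha⟩ := MulAction.exists_smul_eq G Q S.P₀
  have hm : a * x * a⁻¹ ∈ (S.P₀ : Subgroup G) := by
    rw [← ha, Sylow.smul_def, Sylow.pointwise_smul_def]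
    exact ⟨x, hx, rfl⟩
  have h := S.sq_P₀ hm
  rw [conj_mul] at h
  exact conj_eq_one_iff.1 h

/-- An element centralising the Sylow subgroup `P₀` has square one. -/
theorem sq_of_centralizes {x : G} (hx : ∀ y ∈ (S.P₀ : Subgroup G), x * y = y * x) : x * x = 1 :=
  S.cent 0 x (hx _ S.t_mem) (hx _ (S.vs_mem 0))

/-- All the involutions of `P₀` are conjugate to `t` in the normaliser of `P₀`. -/
theorem exists_normalizer_conj (h2 : ∀ H : Subgroup G, H.index ≠ 2) {m : Mdl} (hm : m ∈ mP)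
    (hm1 : m ≠ 1) :
    ∃ n ∈ Subgroup.normalizer ((S.P₀ : Subgroup G) : Set G), n * S.t * n⁻¹ = S.phi m := by
  classical
  haveI : Fact (Nat.Prime 2) := ⟨Nat.prime_two⟩
  let N := Subgroup.normalizer ((S.P₀ : Subgroup G) : Set G)
  let R : Mdl → Prop := fun m => ∃ n ∈ N, n * S.t * n⁻¹ = S.phi m
  have hr : S.phi mR ∈ N := by
    rw [Subgroup.mem_normalizer_iff]
    intro x
    constructor
    · rintro ⟨a, ha, rfl⟩
      rw [← map_inv, ← map_mul, ← map_mul]
      exact S.mem_P₀.2 ((mR_norm a).1 ha)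
    · rintro ⟨b, hb, hb'⟩
      have hb'' : S.phi (mR⁻¹ * b * mR) = x := by
        rw [map_mul, map_mul, hb', map_inv]
        group
      rw [← hb'']
      refine S.mem_P₀.2 ((mR_norm _).2 ?_)
      rwa [show mR * (mR⁻¹ * b * mR) * mR⁻¹ = b by group]
  have hRk : ∀ (k : ℕ) (a : Mdl), R a → R (mR ^ k * a * (mR ^ k)⁻¹) := by
    rintro k a ⟨n, hn, he⟩
    refine ⟨S.phi mR ^ k * n, Subgroup.mul_mem _ (Subgroup.pow_mem _ hr k) hn, ?_⟩
    rw [map_mul, map_mul, map_inv, map_pow, ← he]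
    group
  have hRk' : ∀ (k : ℕ) (a : Mdl), R (mR ^ k * a * (mR ^ k)⁻¹) → R a := by
    rintro k a ⟨n, hn, he⟩
    refine ⟨(S.phi mR ^ k)⁻¹ * n, Subgroup.mul_mem _ (Subgroup.inv_mem _
      (Subgroup.pow_mem _ hr k)) hn, ?_⟩
    rw [map_mul, map_mul, map_inv, map_pow] at he
    rw [show (S.phi mR ^ k)⁻¹ * n * S.t * ((S.phi mR ^ k)⁻¹ * n)⁻¹ =
      (S.phi mR ^ k)⁻¹ * (n * S.t * n⁻¹) * S.phi mR ^ k by group, he]
    group
  have hT : R mT := ⟨1, Subgroup.one_mem _, by simp [S.phi_T]⟩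
  have htP := S.t_mem
  have himg : ∀ n ∈ N, ∃ a ∈ mP, a ≠ 1 ∧ S.phi a = n * S.t * n⁻¹ := by
    intro n hn
    obtain ⟨a, ha, he⟩ := (Subgroup.mem_normalizer_iff.1 hn S.t).1 htP
    refine ⟨a, ha, fun h => S.t_ne_one ?_, he⟩
    rw [h, map_one] at he
    simpa using he.symm
  have horb : ∀ a ∈ mP, a ≠ 1 → a = mT ∨ (R a ↔ R mV) ∨ (R a ↔ R (mT * mV)) := by
    intro a ha ha1
    rcases mP_orbits a ha ha1 with h | ⟨k, h⟩ | ⟨k, h⟩
    · exact Or.inl h
    · exact Or.inr (Or.inl (h ▸ ⟨hRk' _ _, hRk _ _⟩))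
    · exact Or.inr (Or.inr (h ▸ ⟨hRk' _ _, hRk _ _⟩))
  -- the orbit has odd size
  have hodd : Odd (Fintype.card {a : Mdl // a ∈ mP ∧ a ≠ 1 ∧ R a}) := by
    let C := Subgroup.centralizer ({S.t} : Set G)
    have hPC : (S.P₀ : Subgroup G) ≤ C := fun x hx =>
      Subgroup.mem_centralizer_singleton_iff.2 (S.comm_P₀ hx htP)
    have h1 : (S.P₀ : Subgroup G).relIndex N =
        (S.P₀ : Subgroup G).relIndex (C ⊓ N) * (C ⊓ N).relIndex N :=
      (Subgroup.relIndex_mul_relIndex _ _ _ (le_inf hPC Subgroup.le_normalizer) inf_le_right).symm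
    have hidx : ¬ 2 ∣ (C ⊓ N).relIndex N := fun h => Sylow.not_dvd_index S.P₀
      ((h.trans (Dvd.intro_left _ h1.symm)).trans
        (Subgroup.relIndex_dvd_index_of_le Subgroup.le_normalizer))
    rw [Subgroup.inf_relIndex_right] at hidx
    have e : {a : Mdl // a ∈ mP ∧ a ≠ 1 ∧ R a} ≃ N ⧸ C.subgroupOf N := by
      refine Equiv.ofBijective (fun a => QuotientGroup.mk
        (⟨Classical.choose a.2.2.2, (Classical.choose_spec a.2.2.2).1⟩ : N)) ⟨?_, ?_⟩
      · intro a b hab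
        have h := QuotientGroup.eq.1 hab
        rw [Subgroup.mem_subgroupOf, Subgroup.coe_mul, Subgroup.coe_inv,
          Subgroup.mem_centralizer_singleton_iff] at h
        simp only at h
        have ha := (Classical.choose_spec a.2.2.2).2
        have hb := (Classical.choose_spec b.2.2.2).2
        refine Subtype.ext (S.inj ?_)
        rw [← ha, ← hb]
        generalize Classical.choose a.2.2.2 = x at h ⊢
        generalize Classical.choose b.2.2.2 = y at h ⊢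
        calc x * S.t * x⁻¹ = x * (S.t * (x⁻¹ * y)) * y⁻¹ := by group
          _ = x * ((x⁻¹ * y) * S.t) * y⁻¹ := by rw [h]
          _ = y * S.t * y⁻¹ := by group
      · intro q
        obtain ⟨⟨n, hn⟩, rfl⟩ := QuotientGroup.mk_surjective q
        obtain ⟨a, ha, ha1, he⟩ := himg n hn
        refine ⟨⟨a, ha, ha1, n, hn, he.symm⟩, QuotientGroup.eq.2 ?_⟩
        have hx := (Classical.choose_spec
          (⟨n, hn, he.symm⟩ : ∃ n ∈ N, n * S.t * n⁻¹ = S.phi a)).2
        rw [Subgroup.mem_subgroupOf, Subgroup.coe_mul, Subgroup.coe_inv,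
          Subgroup.mem_centralizer_singleton_iff]
        simp only
        generalize Classical.choose
          (⟨n, hn, he.symm⟩ : ∃ n ∈ N, n * S.t * n⁻¹ = S.phi a) = x at hx ⊢
        calc x⁻¹ * n * S.t = x⁻¹ * (n * S.t * n⁻¹) * n := by group
          _ = x⁻¹ * (x * S.t * x⁻¹) * n := by rw [← he, hx]
          _ = S.t * (x⁻¹ * n) := by group
    rw [← Nat.card_eq_fintype_card, Nat.card_congr e]
    exact Nat.not_even_iff_odd.1 fun h => hidx (even_iff_two_dvd.1 h)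
  by_cases hV : R mV <;> by_cases hTV : R (mT * mV)
  · rcases horb m hm hm1 with h | h | h
    · exact h ▸ hT
    · exact h.2 hV
    · exact h.2 hTV
  · exfalso
    have heq : ∀ a : Mdl, (a ∈ mP ∧ a ≠ 1 ∧ R a) ↔ (a = mT ∨ a ∈ mP ∧ a ≠ 1 ∧
        ∃ k : Fin 3, a = mR ^ (k : ℕ) * mV * (mR ^ (k : ℕ))⁻¹) := by
      intro a
      constructor
      · rintro ⟨ha, ha1, hRa⟩
        rcases mP_orbits a ha ha1 with h | h | ⟨k, h⟩
        · exact Or.inl h
        · exact Or.inr ⟨ha, ha1, h⟩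
        · exact absurd (hRk' k _ (h ▸ hRa)) hTV
      · rintro (rfl | ⟨ha, ha1, k, h⟩)
        · exact ⟨mT_facts.2.2.1, mT_facts.1, hT⟩
        · exact ⟨ha, ha1, h ▸ hRk k _ hV⟩
    rw [Fintype.card_congr (Equiv.subtypeEquivRight heq), card_orbit_V] at hodd
    exact absurd hodd (by decide)
  · exfalso
    have heq : ∀ a : Mdl, (a ∈ mP ∧ a ≠ 1 ∧ R a) ↔ (a = mT ∨ a ∈ mP ∧ a ≠ 1 ∧
        ∃ k : Fin 3, a = mR ^ (k : ℕ) * (mT * mV) * (mR ^ (k : ℕ))⁻¹) := by
      intro a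
      constructor
      · rintro ⟨ha, ha1, hRa⟩
        rcases mP_orbits a ha ha1 with h | ⟨k, h⟩ | h
        · exact Or.inl h
        · exact absurd (hRk' k _ (h ▸ hRa)) hV
        · exact Or.inr ⟨ha, ha1, h⟩
      · rintro (rfl | ⟨ha, ha1, k, h⟩)
        · exact ⟨mT_facts.2.2.1, mT_facts.1, hT⟩
        · exact ⟨ha, ha1, h ▸ hRk k _ hTV⟩
    rw [Fintype.card_congr (Equiv.subtypeEquivRight heq), card_orbit_TV] at hodd
    exact absurd hodd (by decide)
  · exfalso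
    refine S.t_ne_one (eq_one_of_normalizer_fixed h2 S.P₀ (fun a ha b hb => S.comm_P₀ ha hb) htP
      fun n hn => ?_)
    obtain ⟨a, ha, ha1, he⟩ := himg n hn
    rcases horb a ha ha1 with h | h | h
    · rw [← he, h, S.phi_T]
    · exact absurd (h.1 ⟨n, hn, he.symm⟩) hV
    · exact absurd (h.1 ⟨n, hn, he.symm⟩) hTV

/-- All involutions are conjugate. -/
theorem isConj_t (h2 : ∀ H : Subgroup G, H.index ≠ 2) {u : G} (hu : u * u = 1) (hu1 : u ≠ 1) :
    IsConj S.t u := by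
  haveI : Fact (Nat.Prime 2) := ⟨Nat.prime_two⟩
  have hcard : Nat.card (Subgroup.zpowers u) = 2 ^ 1 := by
    rw [Nat.card_zpowers, pow_one]
    exact orderOf_eq_prime (by rw [pow_two, hu]) hu1
  obtain ⟨Q, hQ⟩ := (IsPGroup.of_card hcard).exists_le_sylow
  obtain ⟨a, ha⟩ := MulAction.exists_smul_eq G Q S.P₀
  have hm : a * u * a⁻¹ ∈ (S.P₀ : Subgroup G) := by
    rw [← ha, Sylow.smul_def, Sylow.pointwise_smul_def]
    exact ⟨u, hQ (Subgroup.mem_zpowers u), rfl⟩
  obtain ⟨m, hmP, hm'⟩ := hm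
  obtain ⟨n, -, hn⟩ := S.exists_normalizer_conj h2 hmP (fun h => hu1 (by
    rw [h, map_one] at hm'
    simpa using hm'.symm))
  rw [hm'] at hn
  exact (isConj_iff.2 ⟨n, hn⟩).trans (isConj_iff.2 ⟨a⁻¹, by group⟩)

/-- An odd-order subgroup normalised by `P₀` is trivial. -/
theorem odd_eq_bot (h2 : ∀ H : Subgroup G, H.index ≠ 2) (X : Subgroup G)
    (hX : Odd (Nat.card X))
    (hn : ∀ y ∈ (S.P₀ : Subgroup G), ∀ x ∈ X, y * x * y⁻¹ ∈ X) : X = ⊥ := by
  have hsq1 : ∀ (Y : Subgroup G), Odd (Nat.card Y) → ∀ x ∈ Y, x * x = 1 → x = 1 := by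
    intro Y hY x hx hxx
    have := Nat.dvd_gcd (orderOf_dvd_of_pow_eq_one ((pow_two x).trans hxx))
      (Y.orderOf_dvd_natCard hx)
    rw [(Nat.coprime_two_left.2 hY), Nat.dvd_one] at this
    exact orderOf_eq_one_iff.1 this
  -- first the part centralising `t`
  have hC : ∀ Y : Subgroup G, Odd (Nat.card Y) →
      (∀ y ∈ (S.P₀ : Subgroup G), ∀ x ∈ Y, y * x * y⁻¹ ∈ Y) →
      ∀ x ∈ Y, S.t * x = x * S.t → x = 1 := by
    intro Y hY hnY x hx htx
    set D := Y ⊓ Subgroup.centralizer ({S.t} : Set G) with hD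
    suffices h : D = ⊥ from (Subgroup.eq_bot_iff_forall D).1 h x
      ⟨hx, Subgroup.mem_centralizer_singleton_iff.2 htx.symm⟩
    have hfix : ∀ k, ∀ z ∈ D, S.phi (mVs k) * z = z * S.phi (mVs k) → z = 1 := fun k z hz h =>
      hsq1 Y hY z hz.1 (S.cent k z (Subgroup.mem_centralizer_singleton_iff.1 hz.2) h.symm)
    have hnD : ∀ k, ∀ z ∈ D, S.phi (mVs k) * z * (S.phi (mVs k))⁻¹ ∈ D := fun k z hz =>
      ⟨hnY _ (S.vs_mem k) z hz.1, Subgroup.mul_mem _ (Subgroup.mul_mem _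
        (Subgroup.mem_centralizer_singleton_iff.2 (S.comm_t _)) hz.2)
        (Subgroup.inv_mem _ (Subgroup.mem_centralizer_singleton_iff.2 (S.comm_t _)))⟩
    refine eq_bot_of_fpf D (u := S.phi (mVs 0)) (v := S.phi (mVs 1))
      (S.sq_P₀ (S.vs_mem 0)) (S.sq_P₀ (S.vs_mem 1)) (hnD 0) (hnD 1) (hfix 0) (hfix 1) ?_
    rw [← map_mul, mVs_mul]
    exact hfix 2
  -- then every involution of `P₀`
  have hall : ∀ y ∈ (S.P₀ : Subgroup G), y ≠ 1 → ∀ x ∈ X, y * x = x * y → x = 1 := by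
    rintro _ ⟨m, hm, rfl⟩ hy1 x hx hyx
    obtain ⟨n, hn', hnm⟩ := S.exists_normalizer_conj h2 hm (fun h => hy1 (by rw [h, map_one]))
    let Y : Subgroup G := X.comap (MulAut.conj n).toMonoidHom
    have hY : Odd (Nat.card Y) := by
      have he : Nat.card Y = Nat.card X := Nat.card_congr
        ((MulAut.conj n).toEquiv.subtypeEquiv fun a => Iff.rfl)
      rwa [he]
    have hnY : ∀ y ∈ (S.P₀ : Subgroup G), ∀ z ∈ Y, y * z * y⁻¹ ∈ Y := fun y hy z hz => by
      have h := hn _ ((Subgroup.mem_normalizer_iff.1 hn' y).1 hy) _ hz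
      show n * (y * z * y⁻¹) * n⁻¹ ∈ X
      simpa [mul_assoc] using h
    have hx' : n⁻¹ * x * n ∈ Y := by
      show n * (n⁻¹ * x * n) * n⁻¹ ∈ X
      rwa [show n * (n⁻¹ * x * n) * n⁻¹ = x by group]
    have := hC Y hY hnY _ hx' (by
      calc S.t * (n⁻¹ * x * n) = n⁻¹ * ((n * S.t * n⁻¹) * x) * n := by group
        _ = n⁻¹ * (x * (n * S.t * n⁻¹)) * n := by rw [hnm, hyx]
        _ = n⁻¹ * x * n * S.t := by group)
    calc x = n * (n⁻¹ * x * n) * n⁻¹ := by group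
      _ = 1 := by rw [this, mul_one, mul_inv_cancel]
  refine eq_bot_of_fpf X (u := S.t) (v := S.phi (mVs 0)) S.t_mul_t (S.sq_P₀ (S.vs_mem 0))
    (hn _ S.t_mem) (hn _ (S.vs_mem 0)) (hall _ S.t_mem S.t_ne_one)
    (hall _ (S.vs_mem 0) fun h => ?_) (hall _ (mul_mem S.t_mem (S.vs_mem 0)) fun h => ?_)
  · rw [map_eq_one_iff _ S.inj] at h
    revert h; decide +kernel
  · rw [← S.phi_T, ← map_mul, map_eq_one_iff _ S.inj] at h
    revert h; decide +kernel

end Setting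

end CfsgLib.CentTwoAlt
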