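import Cfsg.Agent.CentTwoAlt.Basic
import Cfsg.Agent.J1Order.Shape

/-!
# No simple group has an involution centraliser `Z/2 × A₄`

The difference `f` of two twisted sums over the section of the involution has norm 4, vanishes
against the degrees, against `χ(t)` and against `χ(t)²/χ(1)`; the three non-trivial characters in
its support are too large for the last relation.
-/

set_option autoImplicit false
set_option linter.style.haveILetI false
set_option linter.unusedSectionVars false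

namespace CfsgLib.CentTwoAlt

open Cfsg CfsgLib.Characters
open scoped ComplexConjugate

universe u

/-- A primitive cube root of unity. -/
noncomputable def ζ₃ : ℂ := Complex.exp (2 * Real.pi * Complex.I / (3 : ℕ))

theorem isPrimitiveRoot_ζ₃ : IsPrimitiveRoot ζ₃ 3 := Complex.isPrimitiveRoot_exp 3 (by norm_num)

theorem ζ₃_cube : ζ₃ ^ 3 = 1 := isPrimitiveRoot_ζ₃.pow_eq_one

theorem ζ₃_sum : 1 + ζ₃ + ζ₃ ^ 2 = 0 := by
  have h := isPrimitiveRoot_ζ₃.geom_sum_eq_zero (by norm_num : 1 < 3)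
  simpa [Finset.sum_range_succ] using h

/-- A primitive cube root of unity as a unit. -/
noncomputable def ωu : ℂˣ := (isPrimitiveRoot_ζ₃.isUnit (by norm_num)).unit

theorem ωu_val : (ωu : ℂ) = ζ₃ := IsUnit.unit_spec _

theorem ωu_pow : ωu ^ 3 = 1 := Units.ext (by rw [Units.val_pow_eq_pow_val, ωu_val, Units.val_one,
  ζ₃_cube])

/-- The linear character `k ↦ ω ^ k` of the cyclic group of order 3. -/
def rootHom3 (ω : ℂˣ) (h : ω ^ 3 = 1) : Multiplicative (ZMod 3) →* ℂˣ :=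
  MonoidHom.mk' (fun k => ω ^ (Multiplicative.toAdd k).val) fun a b => by
    rw [← pow_add, toAdd_mul, ZMod.val_add, ← pow_eq_pow_mod _ h]

/-- The cyclic subgroup of order 3 of the model. -/
def threeHom : Multiplicative (ZMod 3) →* Mdl :=
  MonoidHom.mk' (fun k => mR ^ (Multiplicative.toAdd k).val) fun a b =>
    (by decide +kernel : ∀ a b : Multiplicative (ZMod 3),
      mR ^ (Multiplicative.toAdd (a * b)).val =
        mR ^ (Multiplicative.toAdd a).val * mR ^ (Multiplicative.toAdd b).val) a b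

theorem threeHom_injective : Function.Injective threeHom := by decide +kernel

/-- Representatives of the three classes of the section. -/
def rep (i : Fin 3) : Mdl := mT * mR ^ (i : ℕ)

theorem rep_facts : rep 0 = mT ∧ (∀ i, rep i ^ 3 = mT) ∧ (∀ i, (rep i)⁻¹ = rep (-i)) ∧
    (∀ k : Multiplicative (ZMod 3),
      (mT * threeHom k)⁻¹ = rep ((![0, 2, 1] : Fin 3 → Fin 3) (Multiplicative.toAdd k))) := by
  decide +kernel

theorem rep_cent : ∀ i, Fintype.card {m : Mdl // m * rep i = rep i * m} =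
    (![24, 6, 6] : Fin 3 → ℕ) i := by
  decide +kernel

theorem rep_not_conj : ∀ i j : Fin 3, ∀ m : Mdl, m * rep i * m⁻¹ = rep j → i = j := by
  decide +kernel

theorem rep_no_pair : ∀ i : Fin 3, i ≠ 0 → ∀ u : Mdl, u * u = 1 →
    u * rep i * (u * rep i) ≠ 1 := by
  decide +kernel

namespace Setting

variable {G : Type u} [Group G] (S : Setting G)

/-- The representatives in the group. -/
def g (i : Fin 3) : G := S.phi (rep i)

theorem g_zero : S.g 0 = S.t := by rw [g, rep_facts.1, S.phi_T]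

theorem g_pow (i : Fin 3) : S.g i ^ 3 = S.t := by rw [g, ← map_pow, rep_facts.2.1, S.phi_T]

theorem g_ne_one (i : Fin 3) : S.g i ≠ 1 := fun h => S.t_ne_one (by rw [← S.g_pow i, h, one_pow])

variable (hr : S.phi.range = Subgroup.centralizer ({S.t} : Set G))
include hr

theorem exists_pre {a : G} (h : a * S.t = S.t * a) : ∃ m, S.phi m = a := by
  rw [← MonoidHom.mem_range, hr, Subgroup.mem_centralizer_singleton_iff]
  exact h

theorem g_not_conj {i j : Fin 3} (h : IsConj (S.g i) (S.g j)) : i = j := by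
  obtain ⟨a, ha⟩ := isConj_iff.1 h
  have h' := congrArg (· ^ 3) ha
  simp only [conj_pow, g_pow] at h'
  obtain ⟨m, rfl⟩ := S.exists_pre hr (mul_inv_eq_iff_eq_mul.1 h')
  refine rep_not_conj i j m (S.inj ?_)
  rw [map_mul, map_mul, map_inv]
  exact ha

theorem card_cent (i : Fin 3) :
    Nat.card (Subgroup.centralizer ({S.g i} : Set G)) = (![24, 6, 6] : Fin 3 → ℕ) i := by
  rw [← rep_cent i, ← Nat.card_eq_fintype_card]
  refine (Nat.card_congr (Equiv.ofBijective
    (fun m : {m : Mdl // m * rep i = rep i * m} =>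
      (⟨S.phi m.1, Subgroup.mem_centralizer_singleton_iff.2
        (by rw [g, ← map_mul, m.2, map_mul])⟩ : Subgroup.centralizer ({S.g i} : Set G)))
    ⟨fun a b h => Subtype.ext (S.inj (congrArg Subtype.val h)), ?_⟩)).symm
  rintro ⟨x, hx⟩
  rw [Subgroup.mem_centralizer_singleton_iff] at hx
  obtain ⟨m, rfl⟩ := S.exists_pre hr (a := x) (by
    rw [← S.g_pow i]; exact (Commute.pow_right (show Commute x (S.g i) from hx) 3).eq)
  exact ⟨⟨m, S.inj (by rw [map_mul, map_mul]; exact hx)⟩, rfl⟩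

theorem no_pair {i : Fin 3} (hi : i ≠ 0) {u : G} (hu : u * u = 1)
    (h : u * S.g i * (u * S.g i) = 1) : False := by
  have hinv : u * S.g i * u⁻¹ = (S.g i)⁻¹ := by
    rw [inv_eq_of_mul_eq_one_right hu, eq_inv_iff_mul_eq_one]
    simpa only [mul_assoc] using h
  have h' := congrArg (· ^ 3) hinv
  simp only [conj_pow, inv_pow, g_pow, inv_eq_of_mul_eq_one_right S.t_mul_t] at h'
  obtain ⟨m, rfl⟩ := S.exists_pre hr (mul_inv_eq_iff_eq_mul.1 h')
  refine rep_no_pair i hi m (S.inj ?_) (S.inj ?_)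
  · rw [map_mul, hu, map_one]
  · rw [map_mul, map_mul, map_one]; exact h

omit hr

variable [Fintype G]

/-- The degree. -/
noncomputable def deg (χ : IrrCharacter G) : ℕ := (ClassPairs.exists_irr_degree χ).choose

theorem deg_pos (χ : IrrCharacter G) : 0 < deg χ :=
  (ClassPairs.exists_irr_degree χ).choose_spec.1

theorem deg_eq (χ : IrrCharacter G) : (χ : G → ℂ) 1 = (deg χ : ℂ) :=
  (ClassPairs.exists_irr_degree χ).choose_spec.2.1

/-- The values on the three classes. -/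
noncomputable def v (i : Fin 3) (χ : IrrCharacter G) : ℂ := (χ : G → ℂ) (S.g i)

theorem v_conj (i : Fin 3) (χ : IrrCharacter G) : conj (S.v i χ) = S.v (-i) χ := by
  rw [v, ← character_inv (isCharacter_of_isIrr χ.2), v, g, g, ← map_inv, rep_facts.2.2.1]

theorem orderOf_t : orderOf S.t = 2 := by
  haveI : Fact (Nat.Prime 2) := ⟨Nat.prime_two⟩
  exact orderOf_eq_prime (by rw [pow_two, S.t_mul_t]) S.t_ne_one

open Inv54.SectionSums in
theorem three_sum (ω : ℂˣ) (hω : ω ^ 3 = 1) (χ : IrrCharacter G) :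
    ∃ e : ℤ, S.v 0 χ + (ω : ℂ) ^ 2 * S.v 1 χ + (ω : ℂ) * S.v 2 χ = 3 * e := by
  classical
  let f : Multiplicative (ZMod 3) →* G := S.phi.comp threeHom
  have hf : Function.Injective f := S.inj.comp threeHom_injective
  let E : Multiplicative (ZMod 3) ≃* f.range := MonoidHom.ofInjective hf
  haveI := Fintype.ofFinite f.range
  have hc : ∀ l ∈ f.range, S.t * l = l * S.t := by
    rintro _ ⟨k, rfl⟩
    exact (S.comm_t (threeHom k)).symm
  obtain ⟨d, e, -, he, -⟩ := exists_int S.orderOf_t hc ((rootHom3 ω hω).comp E.symm.toMonoidHom) χ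
  refine ⟨e, ?_⟩
  have h3 : Nat.card f.range = 3 := by
    rw [← Nat.card_congr E.toEquiv, Nat.card_eq_fintype_card, Fintype.card_multiplicative,
      ZMod.card]
  rw [h3] at he
  push_cast at he
  rw [← he, xsum, ← Equiv.sum_comp E.toEquiv, ← Equiv.sum_comp Multiplicative.ofAdd]
  have hval : ∀ k : Multiplicative (ZMod 3), conj ((χ : G → ℂ) (S.t * (E k : G))) =
      S.v ((![0, 2, 1] : Fin 3 → Fin 3) (Multiplicative.toAdd k)) χ := fun k => by
    rw [← character_inv (isCharacter_of_isIrr χ.2), v, g, ← rep_facts.2.2.2 k, map_inv,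
      map_mul, S.phi_T]
    rfl
  simp only [MulEquiv.toEquiv_eq_coe, MulEquiv.coe_toEquiv, MonoidHom.comp_apply,
    MulEquiv.coe_toMonoidHom, MulEquiv.symm_apply_apply, hval, rootHom3, MonoidHom.mk'_apply,
    toAdd_ofAdd, Units.val_pow_eq_pow_val]
  show _ = ∑ k : Fin 3, (ω : ℂ) ^ (k : ℕ) * S.v ((![0, 2, 1] : Fin 3 → Fin 3) k) χ
  simp [Fin.sum_univ_three]
  ring

theorem exists_n (j : Fin 3) (χ : IrrCharacter G) : ∃ e : ℤ,
    S.v 0 χ + ζ₃ ^ (2 * (j : ℕ)) * S.v 1 χ + ζ₃ ^ (j : ℕ) * S.v 2 χ = 3 * e := by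
  obtain ⟨e, he⟩ := S.three_sum (ωu ^ (j : ℕ)) (by rw [← pow_mul, mul_comm, pow_mul, ωu_pow, one_pow]) χ
  refine ⟨e, ?_⟩
  rw [Units.val_pow_eq_pow_val, ωu_val, ← pow_mul, mul_comm (j : ℕ) 2] at he
  exact he

/-- The integral combinations. -/
noncomputable def n (j : Fin 3) (χ : IrrCharacter G) : ℤ := (S.exists_n j χ).choose

theorem three_n (j : Fin 3) (χ : IrrCharacter G) : (3 : ℂ) * (S.n j χ : ℂ) =
    S.v 0 χ + ζ₃ ^ (2 * (j : ℕ)) * S.v 1 χ + ζ₃ ^ (j : ℕ) * S.v 2 χ :=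
  (S.exists_n j χ).choose_spec.symm

/-- The value at the involution. -/
noncomputable def val (χ : IrrCharacter G) : ℤ := S.n 0 χ + S.n 1 χ + S.n 2 χ

theorem v_zero (χ : IrrCharacter G) : S.v 0 χ = (S.val χ : ℂ) := by
  have h0 := S.three_n 0 χ
  have h1 := S.three_n 1 χ
  have h2 := S.three_n 2 χ
  simp only [Fin.val_zero, Fin.val_one, Fin.val_two, mul_zero, pow_zero, mul_one, one_mul,
    pow_one, show 2 * 2 = 4 from rfl] at h0 h1 h2
  rw [val]
  push_cast
  linear_combination -(h0 + h1 + h2) / 3 - (S.v 1 χ / 3 + S.v 2 χ / 3) * ζ₃_sum -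
    (S.v 1 χ * ζ₃ / 3) * ζ₃_cube

include hr

theorem sum_v_mul (i k : Fin 3) :
    ∑ χ, S.v i χ * S.v k χ = if k = -i then ((![24, 6, 6] : Fin 3 → ℕ) i : ℂ) else 0 := by
  have hconv : ∀ χ : IrrCharacter G, S.v i χ * S.v k χ = S.v i χ * conj (S.v (-k) χ) :=
    fun χ => by rw [S.v_conj, neg_neg]
  rw [Finset.sum_congr rfl fun χ _ => hconv χ]
  split_ifs with h
  · subst h
    rw [neg_neg, show (∑ χ, S.v i χ * conj (S.v i χ)) = _ from
      sum_irr_mul_conj_of_isConj (IsConj.refl (S.g i)), S.card_cent hr i]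
  · exact sum_irr_mul_conj_of_not_isConj fun hc => h (by
      rw [S.g_not_conj hr hc, neg_neg])

theorem gram (j k : Fin 3) : 9 * ((∑ χ, S.n j χ * S.n k χ : ℤ) : ℂ) =
    24 + 6 * (ζ₃ ^ (2 * (j : ℕ)) * ζ₃ ^ (k : ℕ) + ζ₃ ^ (j : ℕ) * ζ₃ ^ (2 * (k : ℕ))) := by
  push_cast
  have key : ∀ χ, (9 : ℂ) * ((S.n j χ : ℂ) * S.n k χ) =
      S.v 0 χ * S.v 0 χ + ζ₃ ^ (2 * (k : ℕ)) * (S.v 0 χ * S.v 1 χ) +
      ζ₃ ^ (k : ℕ) * (S.v 0 χ * S.v 2 χ) + ζ₃ ^ (2 * (j : ℕ)) * (S.v 1 χ * S.v 0 χ) +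
      ζ₃ ^ (2 * (j : ℕ)) * ζ₃ ^ (2 * (k : ℕ)) * (S.v 1 χ * S.v 1 χ) +
      ζ₃ ^ (2 * (j : ℕ)) * ζ₃ ^ (k : ℕ) * (S.v 1 χ * S.v 2 χ) +
      ζ₃ ^ (j : ℕ) * (S.v 2 χ * S.v 0 χ) +
      ζ₃ ^ (j : ℕ) * ζ₃ ^ (2 * (k : ℕ)) * (S.v 2 χ * S.v 1 χ) +
      ζ₃ ^ (j : ℕ) * ζ₃ ^ (k : ℕ) * (S.v 2 χ * S.v 2 χ) := fun χ => by
    rw [show (9 : ℂ) * ((S.n j χ : ℂ) * S.n k χ) = (3 * (S.n j χ : ℂ)) * (3 * (S.n k χ : ℂ)) by
      ring, S.three_n, S.three_n]
    ring
  rw [Finset.mul_sum, Finset.sum_congr rfl fun χ _ => key χ]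
  simp only [Finset.sum_add_distrib, ← Finset.mul_sum, S.sum_v_mul hr]
  simp [show (-(1 : Fin 3)) = 2 from rfl, show (-(2 : Fin 3)) = 1 from rfl]
  ring

theorem gram_self (j : Fin 3) : ∑ χ, S.n j χ * S.n j χ = 4 := by
  apply Int.cast_injective (α := ℂ)
  refine mul_left_cancel₀ (by norm_num : (9 : ℂ) ≠ 0) ((S.gram hr j j).trans ?_)
  rw [← pow_add, ← pow_add, show 2 * (j : ℕ) + j = 3 * j by omega,
    show (j : ℕ) + 2 * j = 3 * j by omega, pow_mul, ζ₃_cube, one_pow]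
  norm_num

theorem gram_zero_one : ∑ χ, S.n 0 χ * S.n 1 χ = 2 := by
  apply Int.cast_injective (α := ℂ)
  refine mul_left_cancel₀ (by norm_num : (9 : ℂ) ≠ 0) ((S.gram hr 0 1).trans ?_)
  simp
  linear_combination 6 * ζ₃_sum

theorem sum_deg (j : Fin 3) : ∑ χ, (deg χ : ℤ) * S.n j χ = 0 := by
  apply Int.cast_injective (α := ℂ)
  refine mul_left_cancel₀ (by norm_num : (3 : ℂ) ≠ 0) ?_
  push_cast
  rw [mul_zero, Finset.mul_sum]
  have hz : ∀ i, ∑ χ : IrrCharacter G, (deg χ : ℂ) * S.v i χ = 0 := fun i => by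
    have h : ∑ χ : IrrCharacter G, (χ : G → ℂ) 1 * conj (S.v (-i) χ) = 0 :=
      sum_irr_mul_conj_of_not_isConj fun hc => S.g_ne_one _ (isConj_one_right.1 hc)
    simpa only [S.v_conj, neg_neg, deg_eq] using h
  rw [Finset.sum_congr rfl (g := fun χ : IrrCharacter G => (deg χ : ℂ) * S.v 0 χ +
      ζ₃ ^ (2 * (j : ℕ)) * ((deg χ : ℂ) * S.v 1 χ) + ζ₃ ^ (j : ℕ) * ((deg χ : ℂ) * S.v 2 χ))
    (fun χ _ => by rw [mul_left_comm, S.three_n]; ring)]
  simp only [Finset.sum_add_distrib, ← Finset.mul_sum, hz]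
  simp

theorem sum_val (j : Fin 3) : ∑ χ, S.val χ * S.n j χ = 8 := by
  apply Int.cast_injective (α := ℂ)
  refine mul_left_cancel₀ (by norm_num : (3 : ℂ) ≠ 0) ?_
  push_cast
  rw [Finset.mul_sum]
  rw [Finset.sum_congr rfl (g := fun χ : IrrCharacter G => S.v 0 χ * S.v 0 χ +
      ζ₃ ^ (2 * (j : ℕ)) * (S.v 0 χ * S.v 1 χ) + ζ₃ ^ (j : ℕ) * (S.v 0 χ * S.v 2 χ))
    (fun χ _ => by rw [mul_left_comm, S.three_n, S.v_zero]; ring)]
  simp only [Finset.sum_add_distrib, ← Finset.mul_sum, S.sum_v_mul hr]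
  simp
  norm_num

theorem sum_sq_div {i : Fin 3} (hi : i ≠ 0) :
    ∑ χ, S.v i χ * (S.v 0 χ ^ 2 / (deg χ : ℂ)) = 0 := by
  classical
  set I := Finset.univ.filter fun u => IsConj S.t u with hIdef
  have hI : ∀ u, u ∈ I ↔ IsConj S.t u := fun u => by simp [hIdef]
  have key := ClassPairs.card_pairs S.t S.t ({S.g (-i)} : Finset G)
  rw [Finset.sum_congr rfl fun a _ => BlocksFrobenius.Klein.sum_conj_eq S.t I hI
      (fun w => if a * S.t * a⁻¹ * w ∈ ({S.g (-i)} : Finset G) then (1 : ℂ) else 0),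
    ← Finset.smul_sum, BlocksFrobenius.Klein.sum_conj_eq S.t I hI
      (fun u => ∑ w ∈ I, if u * w ∈ ({S.g (-i)} : Finset G) then (1 : ℂ) else 0)] at key
  have hz : (∑ u ∈ I, ∑ w ∈ I, if u * w ∈ ({S.g (-i)} : Finset G) then (1 : ℂ) else 0) = 0 := by
    refine Finset.sum_eq_zero fun u hu => Finset.sum_eq_zero fun w hw => if_neg fun h => ?_
    have hsq : ∀ u ∈ I, u * u = 1 := fun u hu => by
      obtain ⟨a, rfl⟩ := isConj_iff.1 ((hI u).1 hu)
      rw [conj_mul, S.t_mul_t, mul_one, mul_inv_cancel]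
    rw [Finset.mem_singleton] at h
    have hw' : w = u * S.g (-i) := by rw [← h, ← mul_assoc, hsq u hu, one_mul]
    exact S.no_pair hr (neg_ne_zero.2 hi) (hsq u hu) (hw' ▸ hsq w hw)
  rw [hz, smul_zero, smul_zero] at key
  simp only [Finset.sum_singleton] at key
  refine (mul_eq_zero.1 (?_ : (Nat.card G : ℂ) * _ = 0)).resolve_left natCard_ne_zero
  refine Eq.trans ?_ key.symm
  congr 1
  refine Finset.sum_congr rfl fun χ _ => ?_
  rw [show conj ((χ : G → ℂ) (S.g (-i))) = S.v i χ by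
    rw [show (χ : G → ℂ) (S.g (-i)) = S.v (-i) χ from rfl, S.v_conj, neg_neg], deg_eq,
    show S.v 0 χ = (χ : G → ℂ) S.t by rw [v, g_zero], pow_two]

omit hr

/-- The difference of two of the combinations. -/
noncomputable def diff (χ : IrrCharacter G) : ℤ := S.n 0 χ - S.n 1 χ

/-- The trivial character. -/
noncomputable def triv : IrrCharacter G := ⟨fun _ => 1, isIrr_one⟩

theorem triv_facts : S.diff triv = 1 ∧ S.val triv = 1 ∧ deg (triv : IrrCharacter G) = 1 := by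
  have hv : ∀ i, S.v i triv = 1 := fun i => rfl
  have h0 : S.n 0 triv = 1 := by
    apply Int.cast_injective (α := ℂ)
    refine mul_left_cancel₀ (by norm_num : (3 : ℂ) ≠ 0) ((S.three_n 0 triv).trans ?_)
    simp [hv]; norm_num
  have h1 : S.n 1 triv = 0 := by
    apply Int.cast_injective (α := ℂ)
    refine mul_left_cancel₀ (by norm_num : (3 : ℂ) ≠ 0) ((S.three_n 1 triv).trans ?_)
    simp [hv]
    linear_combination ζ₃_sum
  refine ⟨by rw [diff, h0, h1, sub_zero], ?_, ?_⟩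
  · have := S.v_zero triv
    rw [hv] at this
    exact_mod_cast this.symm
  · have h := deg_eq (triv : IrrCharacter G)
    simp only [triv] at h
    exact_mod_cast h.symm

include hr

theorem sum_diff_sq_div : ∑ χ, (S.diff χ : ℚ) * (S.val χ : ℚ) ^ 2 / deg χ = 0 := by
  apply Rat.cast_injective (α := ℂ)
  refine mul_left_cancel₀ (by norm_num : (3 : ℂ) ≠ 0) ?_
  push_cast
  rw [mul_zero, Finset.mul_sum]
  rw [Finset.sum_congr rfl (g := fun χ : IrrCharacter G =>
      (1 - ζ₃ ^ 2) * (S.v 1 χ * (S.v 0 χ ^ 2 / (deg χ : ℂ))) +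
      (1 - ζ₃) * (S.v 2 χ * (S.v 0 χ ^ 2 / (deg χ : ℂ))))
    (fun χ _ => by
      have h0 := S.three_n 0 χ
      have h1 := S.three_n 1 χ
      simp only [Fin.val_zero, Fin.val_one, mul_zero, pow_zero, mul_one, one_mul, pow_one] at h0 h1
      rw [diff, S.v_zero]
      push_cast
      linear_combination ((S.val χ : ℂ) ^ 2 / (deg χ : ℂ)) * (h0 - h1))]
  simp only [Finset.sum_add_distrib, ← Finset.mul_sum, S.sum_sq_div hr (by decide : (1 : Fin 3) ≠ 0),
    S.sum_sq_div hr (by decide : (2 : Fin 3) ≠ 0)]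
  simp

theorem diff_sums : (∑ χ, S.diff χ * S.diff χ) = 4 ∧ (∑ χ, (deg χ : ℤ) * S.diff χ) = 0 ∧
    (∑ χ, S.val χ * S.diff χ) = 0 := by
  refine ⟨?_, ?_, ?_⟩
  · rw [Finset.sum_congr rfl (g := fun χ : IrrCharacter G =>
      S.n 0 χ * S.n 0 χ + S.n 1 χ * S.n 1 χ - 2 * (S.n 0 χ * S.n 1 χ))
      (fun χ _ => by rw [diff]; ring), Finset.sum_sub_distrib, Finset.sum_add_distrib,
      ← Finset.mul_sum, S.gram_self hr, S.gram_self hr, S.gram_zero_one hr]
    norm_num
  · simp only [diff, mul_sub, Finset.sum_sub_distrib, S.sum_deg hr, sub_zero]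
  · simp only [diff, mul_sub, Finset.sum_sub_distrib, S.sum_val hr, sub_self]

variable (h2 : ∀ H : Subgroup G, H.index ≠ 2) [IsSimpleGroup G]
include h2

/-- Degree and value of a non-trivial character. -/
theorem deg_val {χ : IrrCharacter G} (hχ : χ ≠ triv) : |S.val χ| ≤ (deg χ : ℤ) ∧
    S.val χ ≠ (deg χ : ℤ) ∧ ∃ m : ℕ, (deg χ : ℤ) + 7 * S.val χ = 8 * m := by
  classical
  refine ⟨?_, fun h => hχ ?_, ?_⟩
  · obtain ⟨d, ρ, hρ, hρχ⟩ := χ.2
    have hd : (χ : G → ℂ) 1 = (d : ℂ) := by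
      rw [← hρχ, Representation.char_one, Module.finrank_fin_fun]
    have h := norm_char_le ρ (S.g 0)
    rw [Module.finrank_fin_fun, hρχ, show (χ : G → ℂ) (S.g 0) = S.v 0 χ from rfl, S.v_zero,
      Complex.norm_intCast] at h
    have hd' : deg χ = d := by exact_mod_cast (deg_eq χ).symm.trans hd
    rw [hd']
    exact_mod_cast h
  · refine Subtype.ext (show (χ : G → ℂ) = fun _ => 1 from ?_)
    obtain ⟨d, ρ, hρ, hρχ⟩ := χ.2
    have hd : (χ : G → ℂ) 1 = (d : ℂ) := by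
      rw [← hρχ, Representation.char_one, Module.finrank_fin_fun]
    have hker : ρ S.t = LinearMap.id := by
      refine (char_eq_finrank_iff ρ S.t).1 ?_
      rw [Module.finrank_fin_fun, hρχ, ← g_zero, ← hd, deg_eq]
      show S.v 0 χ = _
      rw [S.v_zero, h, Int.cast_natCast]
    have htop : ρ.ker = ⊤ :=
      (IsSimpleGroup.eq_bot_or_eq_top_of_normal ρ.ker inferInstance).resolve_left fun hb =>
        S.t_ne_one ((Subgroup.eq_bot_iff_forall _).1 hb S.t (MonoidHom.mem_ker.2 hker))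
    have hall : ∀ x, (χ : G → ℂ) x = (χ : G → ℂ) 1 := fun x => by
      have hx : ρ x = 1 := MonoidHom.mem_ker.1 (htop ▸ Subgroup.mem_top x)
      rw [← hρχ, Representation.character, Representation.character, hx, map_one ρ]
    have h0 : (χ : G → ℂ) 1 ≠ 0 := irr_one_ne_zero χ.2
    by_contra hne
    have hz := classInner_isIrr_ne χ.2 isIrr_one hne
    rw [Cfsg.classInner] at hz
    simp only [hall, map_one, mul_one, Finset.sum_const, Finset.card_univ, nsmul_eq_mul,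
      ← Nat.card_eq_fintype_card, inv_mul_cancel_left₀ natCard_ne_zero] at hz
    exact h0 hz
  · let f : mP →* G := S.phi.comp mP.subtype
    obtain ⟨m, hm⟩ := classInner_characters (isCharacter_comp f (isCharacter_of_isIrr χ.2))
      (isCharacter_of_isIrr (isIrr_one (G := mP)))
    refine ⟨m, Int.cast_injective (α := ℂ) ?_⟩
    rw [Cfsg.classInner, inv_mul_eq_iff_eq_mul₀ natCard_ne_zero] at hm
    simp only [map_one, mul_one] at hm
    have hval : ∀ k : mP, k ≠ 1 → (χ : G → ℂ) (f k) = S.v 0 χ := fun k hk =>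
      (classFunction_isConj (isClassFunction_of_isIrr χ.2) (g_zero S ▸ S.isConj_t h2
        (by rw [← map_mul, show k * k = 1 from Subtype.ext (sq_mP k k.2), map_one])
        (fun h => hk (S.inj.comp Subtype.val_injective (h.trans (map_one f).symm))))).symm
    rw [← Finset.add_sum_erase _ _ (Finset.mem_univ (1 : mP)),
      Finset.sum_congr rfl (g := fun _ => S.v 0 χ) (fun k hk => hval k (Finset.mem_erase.1 hk).1),
      map_one, deg_eq, Finset.sum_const, Finset.card_erase_of_mem (Finset.mem_univ _),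
      Finset.card_univ, Nat.card_eq_fintype_card,
      (by decide +kernel : Fintype.card mP = 8)] at hm
    rw [S.v_zero] at hm
    push_cast at hm ⊢
    simp [nsmul_eq_mul] at hm
    linear_combination hm

theorem term_bound {χ : IrrCharacter G} (hf : S.diff χ ≠ 0) (hχ : χ ≠ triv) :
    -2 / 5 ≤ (S.diff χ : ℚ) * (S.val χ : ℚ) ^ 2 / deg χ ∧
      (Odd (S.val χ) → -1 / 7 ≤ (S.diff χ : ℚ) * (S.val χ : ℚ) ^ 2 / deg χ) := by
  classical
  have hpos : ∀ ψ : IrrCharacter G, (0 : ℤ) < deg ψ := fun ψ => by exact_mod_cast deg_pos ψ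
  have hn : ∀ j, S.n j χ = 0 ∨ S.n j χ = 1 ∨ S.n j χ = -1 := fun j =>
    (J1Order.four_support _ hpos (S.n j) (S.gram_self hr j) (S.sum_deg hr j)).1 χ
  have hd := (J1Order.four_support _ hpos S.diff (S.diff_sums hr).1 (S.diff_sums hr).2.1).1 χ
  obtain ⟨h1, hne, m, hm⟩ := S.deg_val hr h2 hχ
  have hd' := hd.resolve_left hf
  have n0 := hn 0
  have n1 := hn 1
  have n2 := hn 2
  rw [abs_le] at h1
  have hval : -2 ≤ S.val χ ∧ S.val χ ≤ 2 := by
    rw [diff] at hd'; rw [val]; omega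
  have hp := deg_pos χ
  have hq : (0 : ℚ) < (deg χ : ℚ) := by exact_mod_cast hp
  have hf2 : (-1 : ℚ) ≤ S.diff χ := by
    rcases hd' with h | h <;> rw [h] <;> norm_num
  have hstep : ∀ c : ℚ, (S.val χ : ℚ) ^ 2 ≤ c * deg χ →
      -c ≤ (S.diff χ : ℚ) * (S.val χ : ℚ) ^ 2 / deg χ := fun c hc => by
    rw [le_div_iff₀ hq]
    nlinarith [sq_nonneg (S.val χ : ℚ)]
  refine ⟨?_, fun ho => ?_⟩
  · have key : 5 * (S.val χ * S.val χ) ≤ 2 * (deg χ : ℤ) := by
      obtain ⟨h', h''⟩ := hval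
      interval_cases hv : S.val χ <;> omega
    rw [neg_div]
    refine hstep _ ?_
    have : ((5 * (S.val χ * S.val χ) : ℤ) : ℚ) ≤ ((2 * (deg χ : ℤ) : ℤ) : ℚ) := by
      exact_mod_cast key
    push_cast at this
    linarith [pow_two (S.val χ : ℚ)]
  · have key : 7 * (S.val χ * S.val χ) ≤ (deg χ : ℤ) := by
      obtain ⟨h', h''⟩ := hval
      obtain ⟨k, hk⟩ := ho
      interval_cases hv : S.val χ <;> omega
    rw [neg_div]
    refine hstep _ ?_
    have : ((7 * (S.val χ * S.val χ) : ℤ) : ℚ) ≤ (((deg χ : ℤ) : ℤ) : ℚ) := by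
      exact_mod_cast key
    push_cast at this
    linarith [pow_two (S.val χ : ℚ)]

/-- **There is no simple group with involution centraliser `Z/2 × A₄`.** -/
theorem not_simple : False := by
  classical
  obtain ⟨hsq, hdz, hvz⟩ := S.diff_sums hr
  have hpos : ∀ ψ : IrrCharacter G, (0 : ℤ) < deg ψ := fun ψ => by exact_mod_cast deg_pos ψ
  obtain ⟨-, hcard⟩ := J1Order.four_support _ hpos S.diff hsq hdz
  obtain ⟨t1, t2, t3⟩ := S.triv_facts
  set A := Finset.univ.filter fun χ => S.diff χ ≠ 0 with hA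
  have htA : triv ∈ A := by simp [hA, t1]
  have h3 : (A.erase triv).card = 3 := by rw [Finset.card_erase_of_mem htA, hcard]
  obtain ⟨x, y, z, hxy, hxz, hyz, heq⟩ := Finset.card_eq_three.1 h3
  have hmem : ∀ w, (w = x ∨ w = y ∨ w = z) → S.diff w ≠ 0 ∧ w ≠ triv := fun w hw => by
    have : w ∈ A.erase triv := by rw [heq]; simpa using hw
    simpa [hA, and_comm] using this
  have hred : ∀ {M : Type} [AddCommMonoid M] (F : IrrCharacter G → M),
      (∀ ψ, S.diff ψ = 0 → F ψ = 0) → ∑ ψ, F ψ = F triv + (F x + (F y + F z)) := by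
    intro M _ F hF
    rw [← Finset.sum_subset (Finset.subset_univ A) (fun ψ _ hψ => hF ψ (by simpa [hA] using hψ)),
      ← Finset.add_sum_erase _ _ htA, heq, Finset.sum_insert (by simp [hxy, hxz]),
      Finset.sum_pair hyz]
  rw [hred _ (fun ψ h => by rw [h, mul_zero]), t1, t2] at hvz
  have hsum := S.sum_diff_sq_div hr
  rw [hred _ (fun ψ h => by rw [h, Int.cast_zero, zero_mul, zero_div]), t1, t2, t3] at hsum
  norm_num at hsum
  obtain ⟨bx, ox⟩ := S.term_bound hr h2 (hmem x (Or.inl rfl)).1 (hmem x (Or.inl rfl)).2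
  obtain ⟨by', oy⟩ := S.term_bound hr h2 (hmem y (Or.inr (Or.inl rfl))).1
    (hmem y (Or.inr (Or.inl rfl))).2
  obtain ⟨bz, oz⟩ := S.term_bound hr h2 (hmem z (Or.inr (Or.inr rfl))).1
    (hmem z (Or.inr (Or.inr rfl))).2
  have hodd : Odd (S.val x) ∨ Odd (S.val y) ∨ Odd (S.val z) := by
    by_contra hc
    simp only [not_or, Int.not_odd_iff_even, even_iff_two_dvd] at hc
    obtain ⟨⟨a, ha⟩, ⟨b, hb⟩, ⟨c, hc⟩⟩ := hc
    rw [ha, hb, hc] at hvz
    have : (2 : ℤ) ∣ 1 := ⟨-(a * S.diff x + b * S.diff y + c * S.diff z), by linarith⟩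
    omega
  rcases hodd with h | h | h
  · have := ox h; linarith
  · have := oy h; linarith
  · have := oz h; linarith

end Setting

end CfsgLib.CentTwoAlt
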