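import Cfsg.Agent.CentTwoAlt.Basic
import Mathlib.GroupTheory.GroupAction.ConjAct
import Mathlib.GroupTheory.Solvable
import Mathlib.GroupTheory.SpecificGroups.ZGroup
import Mathlib.Data.Nat.Squarefree

/-!
# The subgroup generated by the involutions is simple
-/

set_option autoImplicit false
set_option linter.style.haveILetI false

namespace CfsgLib.CentTwoAlt

universe u

namespace Setting

variable {G : Type u} [Group G] (S : Setting G)

/-- The normal subgroup generated by the involution. -/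
def core : Subgroup G := Subgroup.normalClosure {S.t}

instance : S.core.Normal := Subgroup.normalClosure_normal

theorem t_mem_core : S.t ∈ S.core := Subgroup.subset_normalClosure rfl

theorem core_le {K : Subgroup G} [K.Normal] (h : S.t ∈ K) : S.core ≤ K :=
  Subgroup.normalClosure_le_normal (Set.singleton_subset_iff.2 h)

variable [Finite G]

theorem involution_mem_core (h2 : ∀ H : Subgroup G, H.index ≠ 2) {u : G} (hu : u * u = 1) :
    u ∈ S.core := by
  by_cases hu1 : u = 1
  · exact hu1 ▸ one_mem _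
  obtain ⟨a, rfl⟩ := isConj_iff.1 (S.isConj_t h2 hu hu1)
  exact (inferInstance : S.core.Normal).conj_mem _ S.t_mem_core a

theorem P₀_le_core (h2 : ∀ H : Subgroup G, H.index ≠ 2) : (S.P₀ : Subgroup G) ≤ S.core :=
  fun _ hx => S.involution_mem_core h2 (S.sq_P₀ hx)

theorem t_mem_of_even (h2 : ∀ H : Subgroup G, H.index ≠ 2) {K : Subgroup G} [K.Normal]
    (h : ¬ Odd (Nat.card K)) : S.t ∈ K := by
  haveI : Fact (Nat.Prime 2) := ⟨Nat.prime_two⟩
  obtain ⟨x, hx⟩ := exists_prime_orderOf_dvd_card' (G := K) 2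
    (even_iff_two_dvd.1 (Nat.not_odd_iff_even.1 h))
  have hxx : (x : G) * x = 1 := by
    have := congrArg Subtype.val (hx ▸ pow_orderOf_eq_one x : x ^ 2 = 1)
    simpa [pow_two] using this
  have hx1 : (x : G) ≠ 1 := fun h1 => by
    rw [Subtype.ext h1 (a2 := (1 : K)), orderOf_one] at hx
    omega
  obtain ⟨a, ha⟩ := isConj_iff.1 (S.isConj_t h2 hxx hx1).symm
  exact ha ▸ ‹K.Normal›.conj_mem _ x.2 a

theorem sylow_not_normal (hns : ¬ Group.IsSolvable G) (h2 : ∀ H : Subgroup G, H.index ≠ 2)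
    (hcard : Nat.card (Subgroup.centralizer ({S.t} : Set G)) = 24 ∨
      Nat.card (Subgroup.centralizer ({S.t} : Set G)) = 120) :
    ¬ (S.P₀ : Subgroup G).Normal := by
  classical
  intro hN
  haveI : Fact (Nat.Prime 2) := ⟨Nat.prime_two⟩
  have horb : MulAction.orbit (ConjAct G) S.t = ((S.P₀ : Subgroup G) : Set G) \ {1} := by
    ext u
    rw [ConjAct.mem_orbit_conjAct, Set.mem_sdiff, SetLike.mem_coe, Set.mem_singleton_iff]
    constructor
    · intro h
      obtain ⟨a, ha⟩ := isConj_iff.1 h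
      refine ⟨?_, fun h1 => S.t_ne_one ?_⟩
      · have hu : u = a⁻¹ * S.t * a⁻¹⁻¹ := by rw [← ha]; group
        exact hu ▸ hN.conj_mem _ S.t_mem a⁻¹
      · rw [h1, mul_one, mul_inv_cancel] at ha
        exact ha.symm
    · rintro ⟨hu, hu1⟩
      exact (S.isConj_t h2 (S.sq_P₀ hu) hu1).symm
  have h7 : (MulAction.orbit (ConjAct G) S.t).ncard = 7 := by
    rw [horb, Set.ncard_sdiff_singleton_of_mem (one_mem _), ← Nat.card_coe_set_eq]
    exact congrArg (· - 1) (S.card_sylow S.P₀)
  have hst : Nat.card (MulAction.stabilizer (ConjAct G) S.t) =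
      Nat.card (Subgroup.centralizer ({S.t} : Set G)) :=
    Nat.card_congr (ConjAct.ofConjAct.toEquiv.subtypeEquiv fun a => by
      rw [MulAction.mem_stabilizer_iff, ConjAct.smul_def, mul_inv_eq_iff_eq_mul,
        Subgroup.mem_centralizer_singleton_iff]
      rfl)
  have hG : Nat.card G = Nat.card (Subgroup.centralizer ({S.t} : Set G)) * 7 := by
    rw [← hst, ← h7, ← MulAction.index_stabilizer, Subgroup.card_mul_index]
    exact Nat.card_congr ConjAct.ofConjAct.toEquiv.symm
  have hidx : (S.P₀ : Subgroup G).index = 21 ∨ (S.P₀ : Subgroup G).index = 105 := by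
    have := (S.P₀ : Subgroup G).card_mul_index
    rw [S.card_sylow S.P₀, hG] at this
    omega
  haveI := hN
  haveI : IsZGroup (G ⧸ (S.P₀ : Subgroup G)) := IsZGroup.of_squarefree (by
    rw [← Subgroup.index_eq_card]
    rcases hidx with h | h <;> rw [h] <;> decide +kernel)
  haveI : Group.IsSolvable (S.P₀ : Subgroup G) :=
    Group.isSolvable_of_comm fun a b => Subtype.ext (S.comm_P₀ a.2 b.2)
  exact hns (Group.isSolvable_of_ker_le_range (S.P₀ : Subgroup G).subtype
    (QuotientGroup.mk' (S.P₀ : Subgroup G))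
    (by rw [QuotientGroup.ker_mk', Subgroup.range_subtype]))

theorem not_comm_core (hN : ¬ (S.P₀ : Subgroup G).Normal) (h2 : ∀ H : Subgroup G, H.index ≠ 2) :
    ¬ ∀ a ∈ S.core, ∀ b ∈ S.core, a * b = b * a := by
  intro hab
  refine hN ?_
  suffices h : S.core = (S.P₀ : Subgroup G) from h ▸ inferInstance
  refine le_antisymm (fun x hx => ?_) (S.P₀_le_core h2)
  have hxx : x * x = 1 := S.sq_of_centralizes fun y hy => hab x hx y (S.P₀_le_core h2 hy)
  have hp : IsPGroup 2 (Subgroup.zpowers x) := fun ⟨y, hy⟩ => ⟨1, Subtype.ext (by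
    obtain ⟨k, rfl⟩ := Subgroup.mem_zpowers_iff.1 hy
    show (x ^ k) ^ 2 ^ 1 = 1
    rw [pow_one, pow_two, ← (Commute.refl x).mul_zpow, hxx, one_zpow])⟩
  have hnor : Subgroup.zpowers x ≤ Subgroup.normalizer ((S.P₀ : Subgroup G) : Set G) := by
    rw [Subgroup.zpowers_le, Subgroup.mem_normalizer_iff]
    intro y
    refine ⟨fun hy => ?_, fun hy => ?_⟩
    · rwa [hab x hx y (S.P₀_le_core h2 hy), mul_inv_cancel_right]
    · have h1 := hab x hx _ (S.P₀_le_core h2 hy)
      rw [inv_mul_cancel_right] at h1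
      rwa [mul_left_cancel h1] at hy
  exact (S.P₀.is_maximal' (hp.to_sup_of_normal_right' S.P₀.isPGroup' hnor) le_sup_right).le
    (Subgroup.mem_sup_left (Subgroup.mem_zpowers x))

include S in
/-- A normal subgroup of odd order is trivial. -/
theorem normal_odd_eq_bot (h2 : ∀ H : Subgroup G, H.index ≠ 2) (K : Subgroup G) [K.Normal]
    (h : Odd (Nat.card K)) : K = ⊥ :=
  S.odd_eq_bot h2 K h fun y _ x hx => ‹K.Normal›.conj_mem x hx y

theorem commutator_core (hN : ¬ (S.P₀ : Subgroup G).Normal)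
    (h2 : ∀ H : Subgroup G, H.index ≠ 2) : ⁅S.core, S.core⁆ = S.core := by
  by_cases ho : Odd (Nat.card ↥⁅S.core, S.core⁆)
  · have hb := S.normal_odd_eq_bot h2 _ ho
    refine absurd (fun a ha b hb' => ?_) (S.not_comm_core hN h2)
    exact commutatorElement_eq_one_iff_mul_comm.1
      (Subgroup.mem_bot.1 (hb ▸ Subgroup.commutator_mem_commutator ha hb'))
  · exact le_antisymm (Subgroup.commutator_le_self S.core) (S.core_le (S.t_mem_of_even h2 ho))

theorem core_no_index_two (hN : ¬ (S.P₀ : Subgroup G).Normal)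
    (h2 : ∀ H : Subgroup G, H.index ≠ 2) : ∀ H : Subgroup S.core, H.index ≠ 2 := by
  intro H hH
  haveI := Subgroup.normal_of_index_eq_two hH
  have htop : commutator S.core = ⊤ := by
    refine Subgroup.map_injective S.core.subtype_injective ?_
    rw [Subgroup.map_subtype_commutator, S.commutator_core hN h2, ← MonoidHom.range_eq_map,
      Subgroup.range_subtype]
  haveI : Fact (Nat.Prime 2) := ⟨Nat.prime_two⟩
  haveI : IsCyclic (S.core ⧸ H) := isCyclic_of_prime_card (p := 2) (by
    rw [← Subgroup.index_eq_card, hH])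
  have hle : commutator S.core ≤ H := Subgroup.Normal.quotient_commutative_iff_commutator_le.1
    (IsCyclic.isMulCommutative (α := S.core ⧸ H))
  have : H = ⊤ := top_le_iff.1 (htop ▸ hle)
  rw [this, Subgroup.index_top] at hH
  omega

/-- Sylow 2-subgroups of a subgroup containing `P₀`. -/
theorem card_sylow_sub (N : Subgroup G) (hN : (S.P₀ : Subgroup G) ≤ N) (Q : Sylow 2 N) :
    Nat.card (Q : Subgroup N) = 8 := by
  haveI : Fact (Nat.Prime 2) := ⟨Nat.prime_two⟩
  obtain ⟨R, hR⟩ := (Q.isPGroup'.map N.subtype).exists_le_sylow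
  have h1 := Subgroup.card_dvd_of_le hR
  rw [Subgroup.card_map_of_injective N.subtype_injective, S.card_sylow R] at h1
  have hc : Nat.card ((S.P₀ : Subgroup G).subgroupOf N) = 2 ^ 3 := by
    rw [Nat.card_congr (Subgroup.subgroupOfEquivOfLe hN).toEquiv, S.card_sylow S.P₀]; norm_num
  obtain ⟨Q', hQ'⟩ := (IsPGroup.of_card hc).exists_le_sylow
  have h2 := Subgroup.card_dvd_of_le hQ'
  rw [hc, Nat.card_congr (Q'.equiv Q).toEquiv] at h2
  exact Nat.dvd_antisymm h1 h2

include S in
theorem sq_sylow_sub (N : Subgroup G) (Q : Sylow 2 N) {x : N} (hx : x ∈ (Q : Subgroup N)) :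
    x * x = 1 := by
  haveI : Fact (Nat.Prime 2) := ⟨Nat.prime_two⟩
  obtain ⟨R, hR⟩ := (Q.isPGroup'.map N.subtype).exists_le_sylow
  exact Subtype.ext (S.sq_sylow R (hR ⟨x, hx, rfl⟩))

theorem isSimple_core (hN : ¬ (S.P₀ : Subgroup G).Normal)
    (h2 : ∀ H : Subgroup G, H.index ≠ 2) : IsSimpleGroup S.core := by
  haveI : Nontrivial S.core := ⟨⟨⟨S.t, S.t_mem_core⟩, 1, fun h => S.t_ne_one
    (congrArg Subtype.val h)⟩⟩
  refine ⟨fun K hK => ?_⟩
  haveI : Fact (Nat.Prime 2) := ⟨Nat.prime_two⟩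
  by_cases ho : Odd (Nat.card K)
  · refine Or.inl (Subgroup.map_injective S.core.subtype_injective ?_)
    rw [Subgroup.map_bot]
    refine S.odd_eq_bot h2 _ (by rwa [Subgroup.card_map_of_injective S.core.subtype_injective]) ?_
    rintro y hy _ ⟨x, hx, rfl⟩
    exact ⟨_, hK.conj_mem x hx ⟨y, S.P₀_le_core h2 hy⟩, rfl⟩
  · right
    obtain ⟨x, hx⟩ := exists_prime_orderOf_dvd_card' (G := K) 2
      (even_iff_two_dvd.1 (Nat.not_odd_iff_even.1 ho))
    have hx2 : x ^ 2 = 1 := hx ▸ pow_orderOf_eq_one x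
    have hmem : ∀ u : G, (hu : u * u = 1) → (⟨u, S.involution_mem_core h2 hu⟩ : S.core) ∈ K :=
      fun u hu => involution_mem_of_normal (S.core_no_index_two hN h2)
        (S.card_sylow_sub _ (S.P₀_le_core h2)) (fun Q _ => S.sq_sylow_sub _ Q) K
        (u := (x : S.core)) (by rw [← pow_two]; exact congrArg Subtype.val hx2)
        (fun h => by rw [Subtype.ext h (a2 := (1 : K)), orderOf_one] at hx; omega) x.2
        (Subtype.ext hu)
    rw [eq_top_iff]
    rintro ⟨g, hg⟩ -
    have hle : S.core ≤ K.map S.core.subtype := by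
      show Subgroup.closure (Group.conjugatesOfSet {S.t}) ≤ _
      rw [Subgroup.closure_le]
      intro u hu
      obtain ⟨s, rfl, hsu⟩ := Group.mem_conjugatesOfSet_iff.1 hu
      obtain ⟨a, rfl⟩ := isConj_iff.1 hsu
      have huu : a * S.t * a⁻¹ * (a * S.t * a⁻¹) = 1 := by
        rw [conj_mul, S.t_mul_t, mul_one, mul_inv_cancel]
      exact ⟨_, hmem _ huu, rfl⟩
    obtain ⟨y, hy, he⟩ := hle hg
    exact (Subtype.ext he : y = ⟨g, hg⟩) ▸ hy

theorem centralizer_core (hN : ¬ (S.P₀ : Subgroup G).Normal)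
    (h2 : ∀ H : Subgroup G, H.index ≠ 2) :
    Subgroup.centralizer (S.core : Set G) = ⊥ := by
  by_cases ho : Odd (Nat.card (Subgroup.centralizer (S.core : Set G)))
  · exact S.normal_odd_eq_bot h2 _ ho
  · refine absurd (fun a ha b hb => ?_) (S.not_comm_core hN h2)
    exact Subgroup.mem_centralizer_iff.1 (S.core_le (S.t_mem_of_even h2 ho) hb) a ha

/-- The setting inherited by a subgroup containing the model. -/
noncomputable def restrict (N : Subgroup G) (hN : ∀ m, S.phi m ∈ N) : Setting N where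
  t := ⟨S.t, S.phi_T ▸ hN mT⟩
  phi := S.phi.codRestrict N hN
  inj a b h := S.inj (congrArg Subtype.val h)
  phi_T := Subtype.ext S.phi_T
  card_sylow := S.card_sylow_sub N (by rintro _ ⟨m, -, rfl⟩; exact hN m)
  cent k x h1 h2 := Subtype.ext (S.cent k x (congrArg Subtype.val h1) (congrArg Subtype.val h2))

end Setting

end CfsgLib.CentTwoAlt
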