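import Cfsg.Prelude.Def_SporadicB
import Cfsg.Prelude.Def_TwoFusion
import Cfsg.Agent.CentTwoAlt.Alt
import Cfsg.Agent.CentTwoAlt.Reduce
import Cfsg.Agent.CentTwoAlt.Chars
import Cfsg.Agent.S2202
import Cfsg.Agent.CAGroups.Simple
import Cfsg.Agent.AutPSL.AutOrder
import Cfsg.Agent.RegularLinear.Field
import Cfsg.Agent.Linear.Basic

/-!
# A 2-central involution with centraliser `⟨J⟩ × A_m`
-/

set_option autoImplicit false
set_option linter.style.haveILetI false

namespace CfsgLib.CentTwoAlt

open Cfsg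
open scoped MatrixGroups

universe u

variable {G : Type u} [Group G] [Finite G]

theorem z2_cases : ∀ k : Multiplicative (ZMod 2), (k = 1 ∨ k = Multiplicative.ofAdd 1) ∧ k * k = 1 := by
  decide +kernel

theorem mR_notMem : mR ∉ mP := by decide +kernel

omit [Finite G] in
/-- The centraliser as the image of `Z/2 × A_m`. -/
theorem exists_hom {J : G} (hJ : orderOf J = 2) {m : ℕ} {T : Subgroup G}
    (e : ↥T ≃* ↥(alternatingGroup (Fin m)))
    (hd : IsInternalDirectProduct (Subgroup.zpowers J) T (Subgroup.centralizer ({J} : Set G))) :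
    ∃ Φ : Multiplicative (ZMod 2) × alternatingGroup (Fin m) →* G, Function.Injective Φ ∧
      Φ.range = Subgroup.centralizer ({J} : Set G) ∧ Φ (Multiplicative.ofAdd 1, 1) = J ∧
      ∀ a, Φ (1, a) ∈ T := by
  obtain ⟨-, -, hcomm, hinf, hsup⟩ := hd
  have hJ2 : J ^ 2 = 1 := hJ ▸ pow_orderOf_eq_one J
  let c : Multiplicative (ZMod 2) →* G :=
    MonoidHom.mk' (fun k => J ^ (Multiplicative.toAdd k).val) fun a b => by
      rw [← pow_add, toAdd_mul, ZMod.val_add, ← pow_eq_pow_mod _ hJ2]
  have hc1 : c (Multiplicative.ofAdd 1) = J := by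
    show J ^ (1 : ZMod 2).val = J
    rw [show (1 : ZMod 2).val = 1 from rfl, pow_one]
  have hcz : ∀ k, c k ∈ Subgroup.zpowers J := fun k =>
    Subgroup.pow_mem _ (Subgroup.mem_zpowers J) _
  let j : alternatingGroup (Fin m) →* G := T.subtype.comp e.symm.toMonoidHom
  have hjT : ∀ a, j a ∈ T := fun a => (e.symm a).2
  have hcinj : Function.Injective c := by
    refine (injective_iff_map_eq_one c).2 fun k hk => ?_
    rcases (z2_cases k).1 with h | h
    · exact h
    · rw [h, hc1] at hk
      rw [hk, orderOf_one] at hJ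
      omega
  have hcc : ∀ a b, Commute (c a) (j b) := fun a b => hcomm _ (hcz a) _ (hjT b)
  refine ⟨MonoidHom.noncommCoprod c j hcc, ?_, ?_, ?_,
    fun a => ?_⟩
  · refine (injective_iff_map_eq_one _).2 fun ⟨k, a⟩ h => ?_
    rw [MonoidHom.noncommCoprod_apply] at h
    have hk : c k = 1 := Subgroup.mem_bot.1 (hinf ▸ ⟨hcz k,
      by rw [eq_inv_of_mul_eq_one_left h]; exact Subgroup.inv_mem _ (hjT a)⟩)
    rw [hk, one_mul] at h
    exact Prod.ext (hcinj (hk.trans (map_one c).symm))
      (e.symm.injective (Subtype.ext (h.trans (by simp))))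
  · rw [MonoidHom.noncommCoprod_range, ← hsup]
    congr 1
    · refine le_antisymm ?_ ?_
      · rintro _ ⟨k, rfl⟩; exact hcz k
      · rw [Subgroup.zpowers_le]; exact ⟨_, hc1⟩
    · ext x
      exact ⟨fun ⟨a, ha⟩ => ha ▸ hjT a, fun hx => ⟨e ⟨x, hx⟩, by simp [j]⟩⟩
  · rw [MonoidHom.noncommCoprod_apply, hc1, map_one, mul_one]
  · rw [MonoidHom.noncommCoprod_apply, map_one, one_mul]; exact hjT a

omit [Finite G] in
theorem card_centralizer {J : G} {m : ℕ}
    (Φ : Multiplicative (ZMod 2) × alternatingGroup (Fin m) →* G) (hinj : Function.Injective Φ)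
    (hr : Φ.range = Subgroup.centralizer ({J} : Set G)) :
    Nat.card (Subgroup.centralizer ({J} : Set G)) =
      2 * Fintype.card (alternatingGroup (Fin m)) := by
  rw [← hr, Nat.card_congr (MonoidHom.ofInjective hinj).symm.toEquiv, Nat.card_eq_fintype_card,
    Fintype.card_prod, Fintype.card_multiplicative, ZMod.card]

/-- The degree is at least four. -/
theorem four_le (h2 : ∀ H : Subgroup G, H.index ≠ 2) {J : G} (hJ : IsTwoCentralInvolution J)
    {m : ℕ} (Φ : Multiplicative (ZMod 2) × alternatingGroup (Fin m) →* G)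
    (hinj : Function.Injective Φ) (hr : Φ.range = Subgroup.centralizer ({J} : Set G)) : 4 ≤ m := by
  by_contra hm
  haveI : Fact (Nat.Prime 2) := ⟨Nat.prime_two⟩
  obtain ⟨hord, P, hJP, hPc⟩ := hJ
  have hle : (P : Subgroup G) ≤ Subgroup.centralizer ({J} : Set G) := fun x hx =>
    Subgroup.mem_centralizer_singleton_iff.2 (hPc x hx)
  have hdvd := Subgroup.card_dvd_of_le hle
  rw [card_centralizer Φ hinj hr] at hdvd
  have hodd : ¬ 2 ∣ Fintype.card (alternatingGroup (Fin m)) := by
    obtain rfl | rfl | rfl | rfl : m = 0 ∨ m = 1 ∨ m = 2 ∨ m = 3 := by omega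
    all_goals decide +kernel
  obtain ⟨k, hk⟩ := P.isPGroup'.exists_card_eq
  have h2P : Nat.card (P : Subgroup G) = 2 := by
    have h1 : 2 ∣ Nat.card (P : Subgroup G) := by
      have := Subgroup.orderOf_dvd_natCard _ hJP
      rwa [hord] at this
    rw [hk] at hdvd h1 ⊢
    rcases k with _ | _ | k
    · norm_num at h1
    · rfl
    · exact absurd (Nat.dvd_of_mul_dvd_mul_left two_pos
        ((show 2 * 2 ∣ 2 ^ (k + 2) from ⟨2 ^ k, by ring⟩).trans hdvd)) hodd
  obtain ⟨g, hg⟩ := Small.thompson_transfer_sylow h2 P ⊥ bot_le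
    (by rw [Subgroup.relIndex_bot_left]; exact h2P) hord
  have hJ1 : J = 1 := by
    have h : g⁻¹ * J * g = 1 := Subgroup.mem_bot.1 hg
    calc J = g * (g⁻¹ * J * g) * g⁻¹ := by group
      _ = 1 := by rw [h, mul_one, mul_inv_cancel]
  rw [hJ1, orderOf_one] at hord
  omega

/-- The degree is at most five. -/
theorem le_five (h2 : ∀ H : Subgroup G, H.index ≠ 2) {J : G} (hJ : IsTwoCentralInvolution J)
    {m : ℕ} {T : Subgroup G} (e : ↥T ≃* ↥(alternatingGroup (Fin m)))
    (hd : IsInternalDirectProduct (Subgroup.zpowers J) T (Subgroup.centralizer ({J} : Set G))) :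
    m ≤ 5 := by
  by_contra hm
  haveI : Fact (Nat.Prime 2) := ⟨Nat.prime_two⟩
  obtain ⟨Φ, hinj, hr, hΦJ, hΦT⟩ := exists_hom hJ.1 e hd
  obtain ⟨hord, P, hJP, hPc⟩ := hJ
  obtain ⟨-, -, hcomm, hinf, hsup⟩ := hd
  have hJT : J ∉ T := fun h => by
    have h1 : J = 1 := Subgroup.mem_bot.1 (hinf ▸ ⟨Subgroup.mem_zpowers J, h⟩)
    rw [h1, orderOf_one] at hord
    omega
  have hJJ : J * J = 1 := by rw [← pow_two, ← hord, pow_orderOf_eq_one]
  -- the squares in the centraliser lie in `T`
  have hsq : ∀ x : G, x * J = J * x → x * x ∈ T := by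
    intro x hx
    obtain ⟨⟨k, a⟩, rfl⟩ : x ∈ Φ.range := by
      rw [hr, Subgroup.mem_centralizer_singleton_iff]; exact hx
    rw [← map_mul, Prod.mk_mul_mk,
      (z2_cases k).2]
    exact hΦT _
  -- the elements of the centraliser outside `T`
  have hsplit : ∀ x ∈ (P : Subgroup G), x ∈ T ∨ x * J ∈ T := by
    intro x hx
    obtain ⟨⟨k, a⟩, rfl⟩ : x ∈ Φ.range := by
      rw [hr, Subgroup.mem_centralizer_singleton_iff]; exact hPc x hx
    rcases (z2_cases k).1 with h | h <;> subst h
    · exact Or.inl (hΦT a)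
    · refine Or.inr ?_
      rw [← hΦJ, ← map_mul, Prod.mk_mul_mk, mul_one,
        (z2_cases _).2]
      exact hΦT a
  have hidx : ((P : Subgroup G) ⊓ T).relIndex (P : Subgroup G) = 2 := by
    rw [Subgroup.inf_relIndex_left, Subgroup.relIndex, Subgroup.index_eq_two_iff]
    refine ⟨⟨J, hJP⟩, fun b => ?_⟩
    rw [Subgroup.mem_subgroupOf, Subgroup.mem_subgroupOf, Subgroup.coe_mul]
    rcases hsplit b b.2 with h | h
    · exact Or.inr ⟨h, fun h' => hJT (by
        have := mul_mem (inv_mem h) h'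
        rwa [inv_mul_cancel_left] at this)⟩
    · exact Or.inl ⟨h, fun h' => hJT (by
        have := mul_mem (inv_mem h') h
        rwa [inv_mul_cancel_left] at this)⟩
  obtain ⟨g, hg⟩ := Small.thompson_transfer_sylow h2 P _ inf_le_left hidx hord
  -- the conjugate `s` of `J` in `T`
  set f : alternatingGroup (Fin m) →* G := T.subtype.comp e.symm.toMonoidHom with hf
  set s := e ⟨g⁻¹ * J * g, hg.2⟩ with hs
  have hfs : f s = g⁻¹ * J * g := by simp [hf, hs]
  have hss : (s : Equiv.Perm (Fin m)) * s = 1 := by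
    have h : s * s = 1 := by
      rw [hs, ← map_mul]
      refine (map_eq_one_iff _ e.injective).2 (Subtype.ext ?_)
      show g⁻¹ * J * g * (g⁻¹ * J * g) = 1
      rw [show g⁻¹ * J * g * (g⁻¹ * J * g) = g⁻¹ * (J * J) * g by group, hJJ, mul_one,
        inv_mul_cancel]
    exact congrArg Subtype.val h
  let K : Subgroup (alternatingGroup (Fin m)) :=
    T.comap ((MulAut.conj g).toMonoidHom.comp f)
  have hgen : evenSquares (s : Equiv.Perm (Fin m)) ⊆
      (K.map (alternatingGroup (Fin m)).subtype : Set (Equiv.Perm (Fin m))) := by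
    rintro _ ⟨y, hy, hys, rfl⟩
    let y' : alternatingGroup (Fin m) := ⟨y, Equiv.Perm.mem_alternatingGroup.2 hy⟩
    refine ⟨y' * y', ?_, rfl⟩
    show g * f (y' * y') * g⁻¹ ∈ T
    have hc : f y' * f s = f s * f y' := by
      rw [← map_mul, ← map_mul, show y' * s = s * y' from Subtype.ext hys]
    rw [hfs] at hc
    have := hsq (g * f y' * g⁻¹) (by
      calc g * f y' * g⁻¹ * J = g * (f y' * (g⁻¹ * J * g)) * g⁻¹ := by group
        _ = g * (g⁻¹ * J * g * f y') * g⁻¹ := by rw [hc]
        _ = J * (g * f y' * g⁻¹) := by group)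
    rwa [conj_mul, ← map_mul] at this
  obtain ⟨z, hz, hzs⟩ := (Subgroup.closure_le _).2 hgen (mem_closure_evenSquares hss
    (Equiv.Perm.mem_alternatingGroup.1 s.2) (by rw [Fintype.card_fin]; omega))
  obtain rfl : z = s := Subtype.ext hzs
  have : g * f s * g⁻¹ ∈ T := hz
  rw [hfs, show g * (g⁻¹ * J * g) * g⁻¹ = J by group] at this
  exact hJT this

theorem card_sylow_eight {J : G} (hJ : IsTwoCentralInvolution J)
    (hC : Nat.card (Subgroup.centralizer ({J} : Set G)) = 24 ∨
      Nat.card (Subgroup.centralizer ({J} : Set G)) = 120)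
    (phi : Mdl →* G) (hinj : Function.Injective phi) (Q : Sylow 2 G) :
    Nat.card (Q : Subgroup G) = 8 := by
  haveI : Fact (Nat.Prime 2) := ⟨Nat.prime_two⟩
  obtain ⟨-, P, -, hPc⟩ := hJ
  rw [Nat.card_congr (Q.equiv P).toEquiv]
  have hdvd := Subgroup.card_dvd_of_le
    (show (P : Subgroup G) ≤ Subgroup.centralizer ({J} : Set G) from fun x hx =>
      Subgroup.mem_centralizer_singleton_iff.2 (hPc x hx))
  have h8 : (8 : ℕ) ∣ Nat.card (P : Subgroup G) := by
    have hm : Nat.card (mP.map phi) = 2 ^ 3 := by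
      rw [Subgroup.card_map_of_injective hinj, Nat.card_eq_fintype_card]
      exact card_mP
    obtain ⟨P', hP'⟩ := (IsPGroup.of_card hm).exists_le_sylow
    have := Subgroup.card_dvd_of_le hP'
    rwa [hm, Nat.card_congr (P'.equiv P).toEquiv] at this
  obtain ⟨k, hk⟩ := P.isPGroup'.exists_card_eq
  rw [hk] at hdvd h8 ⊢
  by_contra hne
  have hk3 : 4 ≤ k := by
    by_contra h
    interval_cases k <;> norm_num at *
  have h16 : (2 : ℕ) ^ 4 ∣ Nat.card (Subgroup.centralizer ({J} : Set G)) :=
    (pow_dvd_pow 2 hk3).trans hdvd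
  rcases hC with h | h <;> rw [h] at h16 <;> norm_num at h16

/-- Degree four: the group is `Aut(PSL₂(8))`. -/
theorem case_four (hns : ¬ Group.IsSolvable G) (h2 : ∀ H : Subgroup G, H.index ≠ 2) {J : G}
    (hJ : IsTwoCentralInvolution J) (Φ : Mdl →* G) (hinj : Function.Injective Φ)
    (hr : Φ.range = Subgroup.centralizer ({J} : Set G)) (hΦJ : Φ mT = J) :
    ∃ (F : Type) (_ : Field F) (_ : Fintype F), Fintype.card F = 8 ∧
        Nonempty (G ≃* MulAut (Matrix.ProjectiveSpecialLinearGroup (Fin 2) F)) := by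
  classical
  haveI : Fact (Nat.Prime 2) := ⟨Nat.prime_two⟩
  have hC : Nat.card (Subgroup.centralizer ({J} : Set G)) = 24 := by
    rw [← hr, Nat.card_congr (MonoidHom.ofInjective hinj).symm.toEquiv, Nat.card_eq_fintype_card,
      card_mdl]
  let S : Setting G :=
    { t := J
      phi := Φ
      inj := hinj
      phi_T := hΦJ
      card_sylow := card_sylow_eight hJ (Or.inl hC) Φ hinj
      cent := fun k x h1 h2' => by
        obtain ⟨m, rfl⟩ : x ∈ Φ.range := by
          rw [hr, Subgroup.mem_centralizer_singleton_iff]; exact h1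
        rw [← map_mul, cent_mdl k m (hinj (by rw [map_mul, map_mul]; exact h2')), map_one] }
  have hN := S.sylow_not_normal hns h2 (Or.inl hC)
  haveI hsimp : IsSimpleGroup S.core := S.isSimple_core hN h2
  set M : Subgroup Mdl := S.core.comap Φ with hM
  have hPM : mP ≤ M := fun m hm => S.P₀_le_core h2 (S.mem_P₀.2 hm)
  have hMP : M = mP := by
    have h1 := Subgroup.card_dvd_of_le hPM
    have h24 := M.card_subgroup_dvd_card
    have hP8 : Nat.card mP = 8 := by rw [Nat.card_eq_fintype_card]; exact card_mP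
    rw [hP8] at h1
    rw [Nat.card_eq_fintype_card (α := Mdl), card_mdl] at h24
    have h824 : Nat.card M = 8 ∨ Nat.card M = 24 := by
      have := Nat.le_of_dvd (by norm_num) h24
      obtain ⟨j, hj⟩ := h1
      have hj3 : j ≤ 3 := by omega
      interval_cases j <;> rw [hj] at h24 ⊢ <;> norm_num at h24
      all_goals norm_num
    rcases h824 with h | h
    · exact (Subgroup.eq_of_le_of_card_ge hPM (by rw [h, hP8])).symm
    · exfalso
      have hMtop : M = ⊤ := Subgroup.eq_top_of_card_eq _ (by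
        rw [h, Nat.card_eq_fintype_card, card_mdl])
      have hall : ∀ m, S.phi m ∈ S.core := fun m =>
        (hMtop ▸ Subgroup.mem_top m : m ∈ M)
      haveI := Fintype.ofFinite S.core
      refine (S.restrict S.core hall).not_simple ?_ (S.core_no_index_two hN h2)
      ext ⟨x, hx⟩
      rw [MonoidHom.mem_range, Subgroup.mem_centralizer_singleton_iff]
      constructor
      · rintro ⟨m, hm⟩
        rw [← hm]
        exact Subtype.ext (S.comm_t m)
      · intro h'
        obtain ⟨m, hm⟩ : x ∈ Φ.range := by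
          rw [hr, Subgroup.mem_centralizer_singleton_iff]
          exact congrArg Subtype.val h'
        exact ⟨m, Subtype.ext hm⟩
  -- centralisers of involutions in the core are abelian
  have hab : ∀ u : S.core, orderOf u = 2 →
      IsMulCommutative ↥(Subgroup.centralizer ({u} : Set S.core)) := by
    intro u hu
    have huu : (u : G) * u = 1 := by
      have := congrArg Subtype.val (hu ▸ pow_orderOf_eq_one u : u ^ 2 = 1)
      simpa [pow_two] using this
    have hu1 : (u : G) ≠ 1 := fun h => by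
      rw [Subtype.ext h (a2 := (1 : S.core)), orderOf_one] at hu
      omega
    obtain ⟨a, ha⟩ := isConj_iff.1 (S.isConj_t h2 huu hu1)
    have hinto : ∀ x : S.core, x * u = u * x → a⁻¹ * (x : G) * a ∈ (S.P₀ : Subgroup G) := by
      intro x hx
      have hx' : (x : G) * u = u * x := congrArg Subtype.val hx
      obtain ⟨m, hm⟩ : a⁻¹ * (x : G) * a ∈ Φ.range := by
        rw [hr, Subgroup.mem_centralizer_singleton_iff]
        calc a⁻¹ * (x : G) * a * J = a⁻¹ * ((x : G) * (a * J * a⁻¹)) * a := by group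
          _ = a⁻¹ * ((a * J * a⁻¹) * (x : G)) * a := by
            rw [show a * J * a⁻¹ = (u : G) from ha, hx']
          _ = J * (a⁻¹ * (x : G) * a) := by group
      have hmM : m ∈ M := by
        show Φ m ∈ S.core
        have := (inferInstance : S.core.Normal).conj_mem _ x.2 a⁻¹
        rwa [inv_inv, ← hm] at this
      rw [hMP] at hmM
      exact hm ▸ S.mem_P₀.2 hmM
    refine ⟨⟨fun x y => ?_⟩⟩
    have h := S.comm_P₀ (hinto x (Subgroup.mem_centralizer_singleton_iff.1 x.2))
      (hinto y (Subgroup.mem_centralizer_singleton_iff.1 y.2))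
    refine Subtype.ext (Subtype.ext ?_)
    show (x.1 : G) * y.1 = (y.1 : G) * x.1
    calc (x.1 : G) * y.1 = a * ((a⁻¹ * (x.1 : G) * a) * (a⁻¹ * (y.1 : G) * a)) * a⁻¹ := by group
      _ = a * ((a⁻¹ * (y.1 : G) * a) * (a⁻¹ * (x.1 : G) * a)) * a⁻¹ := by rw [h]
      _ = (y.1 : G) * x.1 := by group
  have hQ8 := S.card_sylow_sub S.core (S.P₀_le_core h2)
  obtain ⟨Q⟩ : Nonempty (Sylow 2 S.core) := inferInstance
  have hev : Even (Nat.card S.core) := even_iff_two_dvd.2
    (((by norm_num : 2 ∣ 8).trans (hQ8 Q).symm.dvd).trans (Subgroup.card_subgroup_dvd_card _))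
  have hnab : ¬ ∀ a b : S.core, a * b = b * a := fun h => S.not_comm_core hN h2 fun a ha b hb =>
    congrArg Subtype.val (h ⟨a, ha⟩ ⟨b, hb⟩)
  rcases Cfsg.Agent.S2202.result hev hab with hcyc | hnorm | ⟨F, iF, iFt, A, iA, iAf, hchar, hA, ⟨e⟩⟩
  · exfalso
    haveI := hcyc Q
    obtain ⟨q, hq⟩ := IsCyclic.exists_generator (α := (Q : Subgroup S.core))
    have h8 := orderOf_eq_card_of_forall_mem_zpowers hq
    have hd : orderOf q ∣ 2 := orderOf_dvd_of_pow_eq_one (by
      rw [pow_two]; exact Subtype.ext (S.sq_sylow_sub _ Q q.2))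
    rw [h8, hQ8 Q] at hd
    norm_num at hd
  · exfalso
    haveI := hnorm Q
    rcases hsimp.eq_bot_or_eq_top_of_normal (Q : Subgroup S.core) inferInstance with h | h
    · have := hQ8 Q
      rw [h, Subgroup.card_bot] at this
      omega
    · refine hnab fun a b => ?_
      have hsq : ∀ a : S.core, a * a = 1 := fun a => S.sq_sylow_sub _ Q (h ▸ Subgroup.mem_top a)
      have h3 := inv_eq_of_mul_eq_one_right (hsq (a * b))
      rw [← h3, mul_inv_rev, inv_eq_of_mul_eq_one_right (hsq a),
        inv_eq_of_mul_eq_one_right (hsq b)]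
  -- the abelian factor is trivial
  haveI : IsSimpleGroup (Matrix.SpecialLinearGroup (Fin 2) F × A) := e.symm.isSimpleGroup
  have hA1 : Subsingleton A := by
    rcases (inferInstance :
      ((MonoidHom.fst (Matrix.SpecialLinearGroup (Fin 2) F) A).ker).Normal).eq_bot_or_eq_top
      with hb | ht
    · exact ⟨fun a b => by
        have h1 := (Subgroup.eq_bot_iff_forall _).1 hb
          ((1, a) : Matrix.SpecialLinearGroup (Fin 2) F × A)
          (show (1 : Matrix.SpecialLinearGroup (Fin 2) F) = 1 from rfl)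
        have h2' := (Subgroup.eq_bot_iff_forall _).1 hb
          ((1, b) : Matrix.SpecialLinearGroup (Fin 2) F × A)
          (show (1 : Matrix.SpecialLinearGroup (Fin 2) F) = 1 from rfl)
        exact (congrArg Prod.snd h1).trans (congrArg Prod.snd h2').symm⟩
    · exfalso
      refine hnab fun x y => e.injective ?_
      rw [map_mul, map_mul]
      have hx : (e x).1 = 1 := ht.ge (Subgroup.mem_top (e x))
      have hy : (e y).1 = 1 := ht.ge (Subgroup.mem_top (e y))
      exact Prod.ext (by simp [hx, hy]) (mul_comm _ _)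
  haveI := hA1
  haveI : Unique A := uniqueOfSubsingleton 1
  let e₁ : S.core ≃* Matrix.SpecialLinearGroup (Fin 2) F := e.trans MulEquiv.prodUnique
  let e' : S.core ≃* Matrix.ProjectiveSpecialLinearGroup (Fin 2) F :=
    e₁.trans CAGroups.sl2EquivPSL2
  obtain ⟨⟨f, hf0⟩, -, hf⟩ := FiniteField.card F 2
  simp only [PNat.mk_coe] at hf
  have hcN : Nat.card S.core = Fintype.card F * (Fintype.card F ^ 2 - 1) := by
    rw [Nat.card_congr e₁.toEquiv, Linear.card_SL_two]
  have hF8 : Fintype.card F = 8 := by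
    obtain ⟨r, hr'⟩ : ∃ r, Nat.card S.core = 8 * r ∧ ¬ 2 ∣ r :=
      ⟨(Q : Subgroup S.core).index, by rw [← hQ8 Q, Subgroup.card_mul_index], Q.not_dvd_index⟩
    have hsq : ¬ 2 ∣ Fintype.card F ^ 2 - 1 := by
      have h2F : 2 ∣ Fintype.card F ^ 2 := by
        rw [hf, ← pow_mul]; exact dvd_pow_self 2 (by omega)
      have : 1 ≤ Fintype.card F ^ 2 := Nat.one_le_pow _ _ Fintype.card_pos
      omega
    rw [hcN, hf] at hr'
    rw [hf] at hsq ⊢
    have hf3 : f = 3 := by
      rcases (show f < 3 ∨ f = 3 ∨ 3 < f by omega) with hlt | heq | hgt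
      · exfalso
        have h : 8 ∣ 2 ^ f := ((Nat.prime_two.coprime_iff_not_dvd.2 hsq).pow_left 3).dvd_of_dvd_mul_right
          (show 2 ^ 3 ∣ _ from ⟨r, by rw [hr'.1]⟩)
        have := Nat.le_of_dvd (by positivity) h
        have : 2 ^ f ≤ 2 ^ 2 := Nat.pow_le_pow_right (by norm_num) (by omega)
        omega
      · exact heq
      · exfalso
        obtain ⟨d, rfl⟩ : ∃ d, f = d + 4 := ⟨f - 4, by omega⟩
        refine hr'.2 ?_
        have h : 8 * r = 8 * (2 * (2 ^ d * ((2 ^ (d + 4)) ^ 2 - 1))) := by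
          rw [← hr'.1, pow_add]; ring
        exact ⟨_, Nat.eq_of_mul_eq_mul_left (by norm_num) h⟩
    rw [hf3]
    norm_num
  -- the action on the core
  haveI : Fintype (MulAut S.core) := Fintype.ofFinite _
  let ψ : G →* MulAut S.core := MulAut.conjNormal
  have hψ : Function.Injective ψ := by
    refine (injective_iff_map_eq_one ψ).2 fun x hx => ?_
    rw [← Subgroup.mem_bot, ← S.centralizer_core hN h2, Subgroup.mem_centralizer_iff]
    intro y hy
    have h := congrArg Subtype.val (DFunLike.congr_fun hx (⟨y, hy⟩ : S.core))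
    simp only [ψ, MulAut.conjNormal_apply, MulAut.one_apply] at h
    exact (mul_inv_eq_iff_eq_mul.1 h).symm
  have hN504 : Nat.card S.core = 504 := by rw [hcN, hF8]; norm_num
  have hAut : Nat.card (MulAut S.core) = 1512 := by
    rw [Nat.card_congr (MulAut.congr e').toEquiv,
      AutPSL.card_aut_psl (p := 2) (f := 3) (by rw [hF8]; norm_num) (by norm_num) le_rfl,
      if_pos rfl, RegLinear.card_ringAut (q := 2) (d := 3)
        (by rw [Nat.card_eq_fintype_card, hF8]; norm_num)]
    have h := Subgroup.card_eq_card_quotient_mul_card_subgroup (Subgroup.center (GL (Fin 2) F))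
    rw [Linear.card_GL_two, Linear.card_center_GL, hF8] at h
    show 1 * 3 * Nat.card (GL (Fin 2) F ⧸ Subgroup.center (GL (Fin 2) F)) = 1512
    omega
  have hle := Nat.card_le_card_of_injective _ hψ
  rw [hAut] at hle
  have hmul := S.core.card_mul_index
  rw [hN504] at hmul
  have hne1 : S.core.index ≠ 1 := fun h => by
    have htop := Subgroup.index_eq_one.1 h
    have : mR ∈ M := by show Φ mR ∈ S.core; rw [htop]; exact Subgroup.mem_top _
    rw [hMP] at this
    exact mR_notMem this
  have hne2 := h2 S.core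
  have hpos : S.core.index ≠ 0 := Subgroup.index_ne_zero_of_finite
  have hG : Nat.card G = Nat.card (MulAut S.core) := by rw [hAut]; omega
  refine ⟨F, iF, iFt, hF8, ⟨(MulEquiv.ofBijective ψ ?_).trans (MulAut.congr e')⟩⟩
  exact (Nat.bijective_iff_injective_and_card ψ).2 ⟨hψ, hG⟩

/-- Degree five: the group is simple, with the data identifying Janko's group. -/
theorem case_five (hns : ¬ Group.IsSolvable G) (h2 : ∀ H : Subgroup G, H.index ≠ 2) {J : G}
    (hJ : IsTwoCentralInvolution J) (Φ : J1Order.Mdl →* G) (hinj : Function.Injective Φ)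
    (hr : Φ.range = Subgroup.centralizer ({J} : Set G)) (hΦJ : Φ J1Order.mT = J) :
    IsSimpleGroup G ∧
      ∃ Q : Sylow 2 G, IsMulCommutative (Q : Subgroup G) ∧ Nat.card (Q : Subgroup G) = 8 := by
  classical
  haveI : Fact (Nat.Prime 2) := ⟨Nat.prime_two⟩
  have hincl : Function.Injective incl := (injective_iff_map_eq_one incl).2 incl_facts.1
  have hC : Nat.card (Subgroup.centralizer ({J} : Set G)) = 120 := by
    rw [← hr, Nat.card_congr (MonoidHom.ofInjective hinj).symm.toEquiv, Nat.card_eq_fintype_card,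
      J1Order.card_mdl]
  let S : Setting G :=
    { t := J
      phi := Φ.comp incl
      inj := hinj.comp hincl
      phi_T := by rw [MonoidHom.comp_apply, incl_facts.2, hΦJ]
      card_sylow := card_sylow_eight hJ (Or.inr hC) (Φ.comp incl) (hinj.comp hincl)
      cent := fun k x h1 h2' => by
        obtain ⟨m, rfl⟩ : x ∈ Φ.range := by
          rw [hr, Subgroup.mem_centralizer_singleton_iff]; exact h1
        rw [← map_mul, cent_five k m (hinj (by rw [map_mul, map_mul]; exact h2')), map_one] }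
  have hN := S.sylow_not_normal hns h2 (Or.inr hC)
  haveI hsimp : IsSimpleGroup S.core := S.isSimple_core hN h2
  -- the whole centraliser lies in the core
  have hall : ∀ m, Φ m ∈ S.core := by
    set M : Subgroup J1Order.Mdl := S.core.comap Φ with hM
    have hPM : ∀ m ∈ mP, incl m ∈ M := fun m hm => S.P₀_le_core h2 (S.mem_P₀.2 hm)
    have htop : M.comap (MonoidHom.inr (Multiplicative (ZMod 2)) (alternatingGroup (Fin 5))) = ⊤ := by
      have hv : (incl mV).2 ∈
          M.comap (MonoidHom.inr (Multiplicative (ZMod 2)) (alternatingGroup (Fin 5))) := by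
        show (1, (incl mV).2) ∈ M
        exact hPM mV mT_facts.2.2.2.1
      refine (IsSimpleGroup.eq_bot_or_eq_top_of_normal _
        (inferInstance : Subgroup.Normal _)).resolve_left fun hb => ?_
      rw [hb, Subgroup.mem_bot] at hv
      revert hv; decide +kernel
    rintro ⟨k, a⟩
    have ha : (1, a) ∈ M := by
      have := htop.ge (Subgroup.mem_top a)
      exact this
    have hT : J1Order.mT ∈ M := incl_facts.2 ▸ hPM mT mT_facts.2.2.1
    rcases (z2_cases k).1 with h | h <;> subst h
    · exact ha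
    · have := M.mul_mem hT ha
      rwa [show J1Order.mT * ((1, a) : J1Order.Mdl) = (Multiplicative.ofAdd 1, a) from
        Prod.ext (mul_one _) (one_mul _)] at this
  let S' := S.restrict S.core fun m => hall (incl m)
  have htop : S.core = ⊤ := by
    rw [eq_top_iff]
    intro g _
    have hu : g * J * g⁻¹ ∈ S.core := (inferInstance : S.core.Normal).conj_mem _ S.t_mem_core g
    have huu : (⟨g * J * g⁻¹, hu⟩ : S.core) * ⟨g * J * g⁻¹, hu⟩ = 1 := Subtype.ext (by
      show g * J * g⁻¹ * (g * J * g⁻¹) = 1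
      rw [conj_mul, show J * J = 1 from S.t_mul_t, mul_one, mul_inv_cancel])
    have hu1 : (⟨g * J * g⁻¹, hu⟩ : S.core) ≠ 1 := fun h =>
      S.t_ne_one (conj_eq_one_iff.1 (congrArg Subtype.val h))
    obtain ⟨n, hn⟩ := isConj_iff.1 (S'.isConj_t (S.core_no_index_two hN h2) huu hu1)
    have hn' : (n : G) * J * (n : G)⁻¹ = g * J * g⁻¹ := congrArg Subtype.val hn
    obtain ⟨m, hm⟩ : (n : G)⁻¹ * g ∈ Φ.range := by
      rw [hr, Subgroup.mem_centralizer_singleton_iff]
      calc (n : G)⁻¹ * g * J = (n : G)⁻¹ * (g * J * g⁻¹) * g := by group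
        _ = (n : G)⁻¹ * ((n : G) * J * (n : G)⁻¹) * g := by rw [hn']
        _ = J * ((n : G)⁻¹ * g) := by group
    have := S.core.mul_mem n.2 (hm ▸ hall m)
    rwa [mul_inv_cancel_left] at this
  refine ⟨((Subgroup.topEquiv (G := G)).symm.trans
    (MulEquiv.subgroupCongr htop.symm)).isSimpleGroup, S.P₀,
    ⟨⟨fun a b => Subtype.ext (S.comm_P₀ a.2 b.2)⟩⟩, S.card_sylow _⟩

/-- The theorem, relative to the recognition of Janko's first group. -/
theorem main {P : Prop}
    (hP : IsSimpleGroup G → ∀ Q : Sylow 2 G, IsMulCommutative (Q : Subgroup G) →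
      Nat.card (Q : Subgroup G) = 8 → ∀ t : G, orderOf t = 2 →
      ((Subgroup.centralizer ({t} : Set G)) ≃* Multiplicative (ZMod 2) × alternatingGroup (Fin 5)) →
      P)
    (hns : ¬ Group.IsSolvable G) (h2 : ∀ N : Subgroup G, N.Normal → N.index ≠ 2)
    (J : G) (hJ : IsTwoCentralInvolution J) (m : ℕ) (T : Subgroup G)
    (hT : Nonempty (↥T ≃* ↥(alternatingGroup (Fin m))))
    (hd : IsInternalDirectProduct (Subgroup.zpowers J) T (Subgroup.centralizer ({J} : Set G))) :
    (m = 4 ∧ ∃ (F : Type) (_ : Field F) (_ : Fintype F), Fintype.card F = 8 ∧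
        Nonempty (G ≃* MulAut (Matrix.ProjectiveSpecialLinearGroup (Fin 2) F))) ∨
      (m = 5 ∧ P) := by
  obtain ⟨e⟩ := hT
  have h2' : ∀ H : Subgroup G, H.index ≠ 2 := fun H hH =>
    h2 H (Subgroup.normal_of_index_eq_two hH) hH
  obtain ⟨Φ, hinj, hr, hΦJ, -⟩ := exists_hom hJ.1 e hd
  have h4 := four_le h2' hJ Φ hinj hr
  have h5 := le_five h2' hJ e hd
  interval_cases m
  · exact Or.inl ⟨rfl, case_four hns h2' hJ Φ hinj hr hΦJ⟩
  · obtain ⟨hsimp, Q, hQ, h8⟩ := case_five hns h2' hJ Φ hinj hr hΦJ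
    exact Or.inr ⟨rfl, hP hsimp Q hQ h8 J hJ.1
      ((MulEquiv.subgroupCongr hr.symm).trans (MonoidHom.ofInjective hinj).symm)⟩

end CfsgLib.CentTwoAlt
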