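import Cfsg.Agent.J1Order.Model

/-!
# Finite facts about `Z/2 × A₄` and its embedding in `Z/2 × A₅`
-/

set_option autoImplicit false

namespace CfsgLib.CentTwoAlt

set_option synthInstance.maxSize 1024

open Equiv

/-- The model of the centraliser of an involution. -/
abbrev Mdl : Type := Multiplicative (ZMod 2) × alternatingGroup (Fin 4)

/-- The central involution. -/
def mT : Mdl := (Multiplicative.ofAdd 1, 1)

/-- A double transposition. -/
def mV : Mdl := (1, ⟨swap 0 1 * swap 2 3, Equiv.Perm.mem_alternatingGroup.2 (by decide +kernel)⟩)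

/-- An element of order 3. -/
def mR : Mdl := (1, ⟨swap 0 1 * swap 1 2, Equiv.Perm.mem_alternatingGroup.2 (by decide +kernel)⟩)

/-- The three double transpositions. -/
def mVs (k : Fin 3) : Mdl := mR ^ (k : ℕ) * mV * (mR ^ (k : ℕ))⁻¹

/-- A Sylow 2-subgroup of the model. -/
def mP : Subgroup Mdl where
  carrier := {m | m.2 * m.2 = 1}
  one_mem' := one_mul 1
  mul_mem' {a b} ha hb :=
    (by decide +kernel : ∀ a b : alternatingGroup (Fin 4),
      a * a = 1 → b * b = 1 → (a * b) * (a * b) = 1) a.2 b.2 ha hb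
  inv_mem' {a} ha :=
    (by decide +kernel : ∀ a : alternatingGroup (Fin 4), a * a = 1 → a⁻¹ * a⁻¹ = 1) a.2 ha

instance (m : Mdl) : Decidable (m ∈ mP) := inferInstanceAs (Decidable (m.2 * m.2 = 1))

theorem card_mdl : Fintype.card Mdl = 24 := by decide +kernel

theorem card_mP : Fintype.card {m : Mdl // m ∈ mP} = 8 := by decide +kernel

theorem sq_mP : ∀ m : Mdl, m ∈ mP → m * m = 1 := by decide +kernel

theorem mP_of_sq : ∀ m : Mdl, m * m = 1 → m ∈ mP := by decide +kernel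

theorem mT_mul : ∀ m : Mdl, mT * m = m * mT := by decide +kernel

theorem mT_facts : mT ≠ 1 ∧ mT * mT = 1 ∧ mT ∈ mP ∧ mV ∈ mP ∧ mV ≠ 1 ∧
    ∀ k : Fin 3, mVs k ∈ mP ∧ mVs k * mVs k = 1 := by
  decide +kernel

theorem mVs_mul : mVs 0 * mVs 1 = mVs 2 := by decide +kernel

theorem mR_norm : ∀ m : Mdl, m ∈ mP ↔ mR * m * mR⁻¹ ∈ mP := by decide +kernel

theorem mP_orbits : ∀ m : Mdl, m ∈ mP → m ≠ 1 → m = mT ∨
    (∃ k : Fin 3, m = mR ^ (k : ℕ) * mV * (mR ^ (k : ℕ))⁻¹) ∨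
    (∃ k : Fin 3, m = mR ^ (k : ℕ) * (mT * mV) * (mR ^ (k : ℕ))⁻¹) := by
  decide +kernel

theorem card_orbit_V : Fintype.card {a : Mdl // a = mT ∨ a ∈ mP ∧ a ≠ 1 ∧
    ∃ k : Fin 3, a = mR ^ (k : ℕ) * mV * (mR ^ (k : ℕ))⁻¹} = 4 := by
  decide +kernel

theorem card_orbit_TV : Fintype.card {a : Mdl // a = mT ∨ a ∈ mP ∧ a ≠ 1 ∧
    ∃ k : Fin 3, a = mR ^ (k : ℕ) * (mT * mV) * (mR ^ (k : ℕ))⁻¹} = 4 := by
  decide +kernel

theorem noncomm_mdl : mR * mV ≠ mV * mR := by decide +kernel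

theorem cent_mdl : ∀ (k : Fin 3) (m : Mdl), m * mVs k = mVs k * m → m * m = 1 := by
  decide +kernel

/-- A permutation of four points extended to five. -/
def ext5 (p : Perm (Fin 4)) : Perm (Fin 5) :=
  (finSumFinEquiv : Fin 4 ⊕ Fin 1 ≃ Fin 5).permCongr (Equiv.sumCongr p 1)

theorem ext5_facts :
    (∀ a : alternatingGroup (Fin 4), Equiv.Perm.sign (ext5 (a : Perm (Fin 4))) = 1) ∧
    (∀ a b : alternatingGroup (Fin 4),
      ext5 ((a * b : alternatingGroup (Fin 4)) : Perm (Fin 4)) = ext5 a * ext5 b) := by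
  decide +kernel

/-- The embedding of `A₄` in `A₅`. -/
def incl : Mdl →* J1Order.Mdl :=
  MonoidHom.mk' (fun m => (m.1, ⟨ext5 m.2, Equiv.Perm.mem_alternatingGroup.2 (ext5_facts.1 m.2)⟩))
    fun a b => Prod.ext rfl (Subtype.ext (ext5_facts.2 a.2 b.2))

theorem incl_facts : (∀ m : Mdl, incl m = 1 → m = 1) ∧ incl mT = J1Order.mT := by decide +kernel

theorem cent_five : ∀ (k : Fin 3) (m : J1Order.Mdl),
    m * incl (mVs k) = incl (mVs k) * m → m * m = 1 := by
  decide +kernel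

theorem mem_mP_five : ∀ m : Mdl, m ∈ mP → incl m ∈ J1Order.mP := by decide +kernel

end CfsgLib.CentTwoAlt
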